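import Cfsg.Agent.SuzR.B1
import Cfsg.Agent.S1694
import Cfsg.Agent.S1265

/-! Recognition of the Suzuki group (helper24): `Sw.pin`, `Sw.fn` (the map on `N(y₀)`), `Sw.iso`, and
`suz_type`: a group of Suzuki sporadic type is isomorphic to `Spor.Suz`, with `a ↦ z`. -/

set_option autoImplicit false
set_option maxRecDepth 100000

namespace Cfsg.Agent.SuzR

open Cfsg.Agent.HJ Cfsg.Agent.U4R Cfsg.Agent.Comp Cfsg.Agent.Spor Cfsg.Agent.Known Cfsg.Agent.SuzA Subgroup
open Cfsg.Agent.LES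

theorem comm_trick {A : Type*} [Group A] {d e z c t : A} (h3 : c * c * c = 1) (hc : d * e * d⁻¹ * e⁻¹ ∈ zpowers c)
    (dc : Commute d c) (ec : Commute e c) (zc : Commute z c) (zd : Commute z d) (ht : t ∈ zpowers c)
    (ze : z * e * z⁻¹ * e = t) : d * e * d⁻¹ * e⁻¹ = 1 := by
  have k : ∀ {x a}, Commute x c → a ∈ zpowers c → Commute x a := fun h ha => by
    obtain ⟨k, rfl⟩ := mem_zpowers_iff.1 ha; exact h.zpow_right k
  refine two3 h3 hc ?_
  have tc : Commute t c := by obtain ⟨k, rfl⟩ := mem_zpowers_iff.1 ht; exact (Commute.refl c).zpow_left k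
  have h1 := mul_inv_eq_iff_eq_mul.2 (k zc hc).eq
  have h2 := ((k tc hc).mul_left (k ec hc).inv_left).eq
  have h4 := mul_inv_eq_iff_eq_mul.2 (k dc ht).eq
  have h5 := mul_inv_eq_iff_eq_mul.2 zd.eq
  have h6 : z * e * z⁻¹ = t * e⁻¹ := eq_mul_inv_of_mul_eq ze
  have h7 : d * e * d⁻¹ = d * e * d⁻¹ * e⁻¹ * e := by group
  generalize d * e * d⁻¹ * e⁻¹ = a at *
  have h8 : t * e⁻¹ * a⁻¹ = t * e⁻¹ * a := calc
    _ = d * t * d⁻¹ * (d * e * d⁻¹)⁻¹ := by rw [h4, h7]; group
    _ = z * d * z⁻¹ * (z * e * z⁻¹) * (z * d * z⁻¹)⁻¹ := by rw [h5, h6]; group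
    _ = z * (d * e * d⁻¹) * z⁻¹ := by group
    _ = _ := by rw [h7, ← conj_mul, h1, h6, h2]
  exact mul_eq_one_iff_eq_inv.2 (mul_left_cancel h8).symm

theorem ev_prG {A B : Type*} [Group A] [Group B] (a : ℕ → A) (b : ℕ → B) (w : List ℕ) :
    ev (prG a b) w = (ev a w, ev b w) := Prod.ext (map_ev (MonoidHom.fst _ _) _ w) (map_ev (MonoidHom.snd _ _) _ w)

/-- words for the generators. -/
def sw (i : ℕ) : List ℕ := nthL [] [[8], [1, 2, 11, 3, 9, 11, 2, 13, 11, 3, 0, 6, 11], [7], [2, 4, 6, 14], [15], [8, 4], [5]] i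

theorem sw_eq {i : ℕ} (h : i < 7) : ev u (sw i) = SuzM.g i := by
  have : ∀ i < 7, eqB act BU (flat lw (sw i).reverse) [i] = true := by decide +kernel
  rw [ev_W, ← y_eq h]
  exact (W_flat lw _).symm.trans ((mdl.eq (this i h)).trans (mul_one _))

variable {G : Type*} [Group G] [Finite G] [Finite Cfsg.Spor.Suz]

namespace Sw
variable {z v : G} {f : Cfsg.Spor.Suz → G} (S : Sw z v f)
include S

theorem modY {w : List ℕ} (h : chkLet (List.range 12) [w] = true) (e : w ∈ JU4U.rels ∨ ev uU w = 1) :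
    ev (gl f v) w ∈ zpowers (f (u 12)) := by
  have l := lt_of_chkLet h w (by simp)
  have k := ev_mq (a := gl f v) (w := w) fun i hi => (S.cy ((l i hi).trans (by decide))).2
  rw [← mq_one k.1, ← k.2, ← ev_congr' fun i hi => S.lets_eq (l i hi)]
  rcases e with e | e
  · exact S.amal.relsU w e
  · obtain ⟨ρ, h1, -⟩ := homU (lets_ge _ _ _ _ _ _ _ _ _ _ 255 (by decide)) S.amal.relsU
    rw [← ev_congr' fun i hi => h1 i (List.mem_range.2 (l i hi)), ← map_ev, e, map_one]

theorem pin {w : List ℕ} (hw : w ∈ JU4U.rels) : ev (prG u (gl f v)) w ∈ zpowers (prG u (gl f v) 12) := by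
  have key : ∀ w ∈ JU4U.rels, chkLet (List.range 12) [w] = true ∧ ((chn w [15] = true ∧ ∃ j < 3, idc w (List.replicate j 12) = true) ∨
      w = [6, 11, 5, 1, 3, 11, 6] ++ [1, 6, 7, 2] ++ [6, 11, 2, 0, 5, 11, 6] ++
    [1, 6, 7, 2] ++ [6, 11, 5, 1, 3, 11, 6] ++ [3, 7, 6, 0] ++ [6, 11, 2, 0, 5, 11, 6] ++ [3, 7, 6, 0]) := by decide +kernel
  have e1 : (ev (prG u (gl f v)) w).1 = ev u w := map_ev (MonoidHom.fst _ _) _ w
  have e2 : (ev (prG u (gl f v)) w).2 = ev (gl f v) w := map_ev (MonoidHom.snd _ _) _ w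
  have m := S.modY (key w hw).1 (.inl hw)
  rcases (key w hw).2 with ⟨c, j, -, e⟩ | rfl
  · have e : ev u w = u 12 ^ j := by rw [idS e, ev_W, List.reverse_replicate]; simp [Known.W]
    have c := S.chain w _ c (by simpa using cz (i := 15) rfl)
    simp only [ev_cons, ev_nil, one_mul, e, MulAut.conj_apply] at c
    rw [S.L.cj ((cz rfl).pow_left j) (cz rfl), S.L.pow (cz rfl)] at c
    have c2 : Commute ((f (u 12) ^ j)⁻¹ * ev (gl f v) w) (f (u 15)) := by
      refine LES.cj_eq_iff_comm.1 ?_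
      rw [mul_inv_rev, inv_inv, mul_assoc, mul_assoc, ← mul_assoc (f (u 15)), ← mul_assoc (ev _ _), ← mul_assoc (ev _ _), c]
      group
    have n : ¬ Commute (f (u 12)) (f (u 15)) := fun h => neS (v := [15, 12]) (w := [12, 15]) (by decide +kernel) (by
      simpa using ((S.L.comm (cz rfl) (cz rfl)).1 h).eq)
    have : (f (u 12) ^ j)⁻¹ * ev (gl f v) w = 1 := by
      rcases mem3 S.y3 (mul_mem (inv_mem (npow_mem_zpowers _ j)) m) with h | h | h <;> rw [h] at c2
      · exact h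
      · exact absurd c2 n
      · have := c2.mul_left c2
        rw [mul_assoc, ← mul_assoc (f (u 12)) (f (u 12)) (f (u 12)), S.y3, mul_one] at this
        exact absurd this n
    exact mem_zpowers_iff.2 ⟨j, Prod.ext (by rw [e1, e, zpow_natCast]; rfl) (by
      rw [e2, ← inv_mul_eq_one.1 this, zpow_natCast]; rfl)⟩
  · have i1 : ev (gl f v) [1, 6, 7, 2] = (ev (gl f v) [3, 7, 6, 0])⁻¹ := eq_inv_of_mul_eq_one_right
      ((ev_append _ _ _).symm.trans (S.idH (w' := []) (by decide +kernel)))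
    have i2 : ev (gl f v) [6, 11, 5, 1, 3, 11, 6] = (ev (gl f v) [6, 11, 2, 0, 5, 11, 6])⁻¹ := by
      have q := S.idH (w := [6, 6]) (w' := []) (by decide +kernel)
      have r := S.idH (w := [5, 1, 3, 2, 0, 5]) (w' := []) (by decide +kernel)
      have vv : gl f v 11 * gl f v 11 = 1 := S.vv
      simp only [ev_cons, ev_nil, one_mul] at q r ⊢
      refine eq_inv_of_mul_eq_one_right ?_
      calc _ = gl f v 6 * (gl f v 11 * (gl f v 5 * gl f v 0 * gl f v 2 * (gl f v 11 * (gl f v 6 * gl f v 6) * gl f v 11) *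
          gl f v 3 * gl f v 1 * gl f v 5) * gl f v 11) * gl f v 6 := by simp only [mul_assoc]
        _ = 1 := by rw [q, mul_one, vv, mul_one, r, mul_one, vv, mul_one, q]
    have m2 := S.modY (w := [6, 11, 5, 1, 3, 11, 6] ++ [3, 7, 6, 0] ++ [6, 11, 2, 0, 5, 11, 6] ++ [8] ++
      [6, 11, 5, 1, 3, 11, 6] ++ [3, 7, 6, 0] ++ [6, 11, 2, 0, 5, 11, 6] ++ [8]) (by decide)
      (.inr (idU (ws := [_]) (by decide +kernel) _ List.mem_cons_self))
    have c1 := (ev_mq (a := gl f v) (w := [3, 7, 6, 0]) fun i hi => (S.cy (by revert i; decide)).2).1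
    have c2 := (ev_mq (a := gl f v) (w := [6, 11, 2, 0, 5, 11, 6]) fun i hi => (S.cy (by revert i; decide)).2).1
    have c3 := S.idH (w := [3, 7, 6, 0] ++ [8]) (w' := [8] ++ [3, 7, 6, 0]) (by decide +kernel)
    have e8 : ev (gl f v) [8] = z := (one_mul _).trans S.g8
    refine (Prod.ext (e1.trans (idS (w := []) (by decide +kernel))) (e2.trans ?_) : _ = (1 : _ × G)) ▸ one_mem _
    simp only [ev_append, i1, i2, e8] at m m2 c3 ⊢
    generalize ev (gl f v) [3, 7, 6, 0] = d at *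
    generalize ev (gl f v) [6, 11, 2, 0, 5, 11, 6] = t at *
    rw [show d * (t * (d * (t⁻¹ * (d⁻¹ * (t * (d⁻¹ * t⁻¹)))))) = d * (t * d * t⁻¹) * d⁻¹ * (t * d * t⁻¹)⁻¹ by group] at m ⊢
    exact comm_trick S.y3 m c1 ((c2.mul_left c1).mul_left c2.inv_left) (S.g8 ▸ (S.cy (i := 8) (by decide)).2) c3 m2
      (by rw [inv_of_sq S.zz.1]; group)

theorem prH {w : List ℕ} (h : (w.all hl && chkLet (List.range 15) [w]) = true) :
    (ev u w, f (ev u w)) ∈ genL (prG u (gl f v)) (List.range 15) := by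
  rw [Bool.and_eq_true] at h
  rw [← (S.evH h.1).2, ← ev_prG]
  exact ev_mem _ _ fun i hi => mem_genL _ (List.mem_range.2 (lt_of_chkLet h.2 w (by simp) i hi))

theorem fn {g : G} (hg : (1, g) ∈ genL (prG u (gl f v)) (List.range 15)) : g = 1 := by
  set π := prG u (gl f v)
  have pe : ∀ w, ev π w = (ev u w, ev (gl f v) w) := ev_prG _ _
  have hc : ∀ i < 14, Commute (π i) (π 12) := fun i h => Prod.ext (S.cy h).1 (S.cy h).2
  have dd : π 14 * π 14 = 1 := by
    simpa using (pe [14, 14]).trans (Prod.ext (idS (w := []) (by decide +kernel)) (S.idH (w' := []) (by decide +kernel)))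
  have mt := mem_two (K := genL π (List.range 14)) dd ?_ ?_ hg
  rcases mt with h | h
  · refine graph rfl S.L.one hc (fun w hw => S.pin hw) (Prod.ext (u_iv (i := 12) (by decide)) ?_) (fun h => ?_)
      (fun k e => ?_) h
    · exact (congrArg f (u_iv (i := 12) (by decide))).trans (S.L.inv (cz rfl))
    · exact neS (v := [8]) (w := []) (by decide +kernel) (by
        simpa using two3 (by simpa using idS (v := [12, 12, 12]) (w := []) (by decide +kernel)) h
          (by simpa using idS (v := [8, 8]) (w := []) (by decide +kernel)))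
    · rw [zpow_eq_zpow_emod k (n := 3) (by rw [← S.y3, ← pow_three']; exact zpow_natCast _ 3)]
      rw [zpow_eq_zpow_emod k (n := 3) (by
        simpa [zpow_ofNat, pow_three'] using idS (v := [12, 12, 12]) (w := []) (by decide +kernel))] at e
      have : k % 3 = 0 ∨ k % 3 = 1 ∨ k % 3 = 2 := by omega
      rcases this with h | h | h <;> rw [h] at e ⊢
      · exact zpow_zero _
      · exact absurd (by simpa using e) (neS (v := [12]) (w := []) (by decide +kernel))
      · exact absurd (by simpa [zpow_ofNat, pow_two] using e) (neS (v := [12, 12]) (w := []) (by decide +kernel))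
  · have : ∀ k ∈ genL π (List.range 14), Commute k (π 12) := fun k hk =>
      memC.1 (genL_le (H := centralizer {π 12}) (fun i hi => memC.2 (hc i (List.mem_range.1 hi))) hk)
    exact absurd (by simpa [π, prG] using congrArg Prod.fst (this _ h).eq) (neS (v := [12, 14]) (w := [14, 12]) (by decide +kernel))
  · intro k hk
    rw [show π 14 * k * π 14 = π 14 * k * (π 14)⁻¹ by rw [inv_of_sq dd]]
    refine (genL_le (H := (genL π (List.range 14)).comap (κ (π 14)).toMonoidHom) (fun i hi => ?_) hk :)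
    have : ∀ i < 14, i = 11 ∨ ∃ w ∈ [[0, 5, 4], [4, 1, 4], [3, 7, 6], [6, 7, 2], [3, 4, 2], [0, 6, 1], [0, 4, 1], [7], [8],
        [7, 10], [7, 9], [13], [12]], chkLet (List.range 14) [w] = true ∧
        ([14, i, 14].all hl && w.all hl && idc [14, i, 14] w) = true := by decide +kernel
    change π 14 * π i * (π 14)⁻¹ ∈ genL π (List.range 14)
    rw [inv_of_sq dd]
    rcases this i (List.mem_range.1 hi) with rfl | ⟨w, -, h1, h2⟩
    · have c := cmS (i := 14) (j := 11) (by decide +kernel)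
      have := S.vM _ (cz (i := 14) rfl) (cmS (by decide +kernel))
      rw [mul_inv_eq_iff_eq_mul.2 c.eq] at this
      have c' : Commute (π 11) (π 14) := Prod.ext c (mul_inv_eq_iff_eq_mul.1 this)
      rw [← c'.eq, mul_assoc, dd, mul_one]; exact mem_genL _ hi
    · have : ev π [14, i, 14] = ev π w := by
        rw [pe, pe, S.idH h2, idS (by simp only [Bool.and_eq_true] at h2; exact h2.2)]
      simp only [ev_cons, ev_nil, one_mul] at this
      rw [this]
      exact ev_mem _ _ fun j hj => mem_genL _ (List.mem_range.2 (lt_of_chkLet h1 w (by simp) j hj))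
  · rintro _ ⟨i, hi, rfl⟩
    rcases (Nat.lt_succ_iff_lt_or_eq.1 (List.mem_range.1 hi)) with h | rfl
    exacts [.inl (mem_genL _ (List.mem_range.2 h)), .inr rfl]

theorem fn' {x : Cfsg.Spor.Suz} {a b : G} (ha : (x, a) ∈ genL (prG u (gl f v)) (List.range 15))
    (hb : (x, b) ∈ genL (prG u (gl f v)) (List.range 15)) : a = b :=
  inv_mul_eq_one.1 (S.fn (by simpa using mul_mem (inv_mem ha) hb))

theorem iso (hc : Nat.card (centralizer ({z} : Set G)) = 3317760) (hq : IsConj z (f (u 6))) (hs : IsConj z (f (u 7))) :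
    ∃ ρ : Cfsg.Spor.Suz ≃* G, ρ (SuzM.g 0) = z := by
  let P : ℕ → G := fun i => ev (gl f v) (sw i)
  have P1 : ∀ i < 7, i ≠ 4 → (SuzM.g i, P i) ∈ genL (prG u (gl f v)) (List.range 15) := fun i h1 h2 => by
    have : ∀ i < 7, i ≠ 4 → chkLet (List.range 15) [sw i] = true := by decide
    rw [← sw_eq h1, show (ev u (sw i), P i) = _ from (ev_prG u (gl f v) (sw i)).symm]
    exact ev_mem _ _ fun j hj => mem_genL _ (List.mem_range.2 (lt_of_chkLet (this i h1 h2) _ (by simp) j hj))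
  have P2 : ∀ i < 7, i ≠ 1 → Commute (SuzM.g i) (u 8) ∧ P i = f (SuzM.g i) := fun i h1 h2 => by
    have : ∀ i < 7, i ≠ 1 → (sw i).all hl = true := by decide
    rw [← sw_eq h1]; exact S.evH (this i h1 h2)
  have N : ∀ w : List ℕ, (∀ i ∈ w, i < 7 ∧ i ≠ 4) → (ev SuzM.g w, ev P w) ∈ genL (prG u (gl f v)) (List.range 15) :=
    fun w h => by
    rw [← ev_prG]
    exact ev_mem _ _ fun i hi => P1 i (h i hi).1 (h i hi).2
  have H : ∀ w : List ℕ, (∀ i ∈ w, i < 7 ∧ i ≠ 1) → Commute (ev SuzM.g w) (u 8) ∧ ev P w = f (ev SuzM.g w) := fun w h => by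
    induction w with
    | nil => exact ⟨.one_left _, S.L.one.symm⟩
    | cons i w ih =>
      obtain ⟨a, b⟩ := ih fun j hj => h j (List.mem_cons_of_mem _ hj)
      obtain ⟨c, d⟩ := P2 i (h i List.mem_cons_self).1 (h i List.mem_cons_self).2
      exact ⟨a.mul_left c, by rw [ev_cons, ev_cons, b, d, S.L.mul a c]⟩
  have hP : ∀ r ∈ JSuz1.rels, ev P r = 1 := fun r hr => by
    have : ∀ r ∈ JSuz1.rels, (∀ i ∈ r, i < 7 ∧ i ≠ 1) ∨ (∀ i ∈ r, i < 7 ∧ i ≠ 4) ∨ r = [1, 4, 1, 4] ∨
      r = powW (powW [1, 2, 3, 2, 3] 5 ++ [4]) 3 := by decide +kernel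
    rcases this r hr with h | h | rfl | rfl
    · rw [(H r h).2, SuzM.hg r hr, S.L.one]
    · exact S.fn (SuzM.hg r hr ▸ N r h)
    · have c := S.chain (sw 1) [15] (by decide +kernel) (by simpa using cz (i := 15) rfl)
      have e : κ (ev u (sw 1)) (ev u [15]) = ev u [15] := cj_eq.2 (by
        rw [← ev_append, ← ev_append]; exact idS (by decide +kernel))
      rw [e, ← (S.evH (w := [15]) rfl).2, cj_eq] at c
      have b := S.fn (SuzM.hg [1, 1] (by decide +kernel) ▸ N [1, 1] (by decide))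
      have d := (H [4, 4] (by decide)).2
      rw [SuzM.hg _ (by decide +kernel), S.L.one] at d
      simp only [ev_cons, ev_nil, one_mul] at b d ⊢
      change P 1 * P 4 = P 4 * P 1 at c
      rw [mul_assoc (P 4), c, ← mul_assoc, d, one_mul, b]
    · have e : ev SuzM.g (powW [1, 2, 3, 2, 3] 5) = ev u [12] := by
        rw [← List.reverse_reverse (powW _ _), ← W_eq_ev (by decide)]
        exact (mdl.eq (v := nthL [] lw 12) (by decide +kernel)).trans (one_mul _).symm
      have := S.fn' (N _ (by decide)) (e ▸ S.prH (w := [12]) (by decide))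
      rw [ev_powW, ev_append, this, (H [4] (by decide)).2, ← S.L.mul (H [4] (by decide)).1 (e ▸ (S.evH (w := [12]) rfl).1),
        ← S.L.pow ((H [4] (by decide)).1.mul_left (e ▸ (S.evH (w := [12]) rfl).1)), ← ev_append, ← ev_powW, SuzM.hg _ hr,
        S.L.one]
  let ρ : Cfsg.Spor.Suz →* G := SuzM.lt.toHom SuzM.rp hP
  have r1 : ∀ i < 7, ρ (SuzM.g i) = P i := fun i h => SuzM.lt.toHom_letG SuzM.rp hP h
  have r0 : ρ (u 8) = z := by rw [u8, r1 0 (by decide), (P2 0 (by decide) (by decide)).2, ← u8, S.L.fz]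
  have r2 : ∀ x, Commute x (u 8) → ρ x = f x := fun x hx => by
    have hm : x ∈ genL u [0, 2, 4, 5, 6, 7, 9, 10, 12, 14, 15] := cent_z ▸ memC.2 hx
    have mem : ∀ k ∈ genL u [0, 2, 4, 5, 6, 7, 9, 10, 12, 14, 15], Commute k (u 8) := fun k hk => by
      rw [← cent_z] at hk; exact memC.1 hk
    clear hx
    induction hm using closure_induction with
    | mem _ h =>
      obtain ⟨i, hi, rfl⟩ := h
      have : ∀ i ∈ [0, 2, 4, 5, 6, 7, 9, 10, 12, 14, 15], i = 15 ∨ ((∀ j ∈ nthL [] lw i, j < 7 ∧ j ≠ 4) ∧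
        ([i].all hl && chkLet (List.range 15) [[i]]) = true) := by decide +kernel
      rcases this i hi with rfl | ⟨h1, h2⟩
      · rw [u_g (i := 15) (j := 4) (by decide), r1 4 (by decide), (P2 4 (by decide) (by decide)).2]
      · have a := N (nthL [] lw i).reverse fun j hj => h1 j (List.mem_reverse.1 hj)
        rw [← ev_congr' fun j hj => r1 j (h1 j (List.mem_reverse.1 hj)).1, ← map_ev, ← W_eq_ev fun j hj => (h1 j hj).1] at a
        exact S.fn' (x := u i) a (by simpa using S.prH h2)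
    | one => rw [map_one, S.L.one]
    | mul a b ha hb p q => rw [map_mul, p, q, S.L.mul (mem a ha) (mem b hb)]
    | inv a ha p => rw [map_inv, p, S.L.inv (mem a ha)]
  have : IsSimpleGroup Cfsg.Spor.Suz := S1694.result.1
  have hi := inj_of_simple ρ (u := u 8) (r0 ▸ S.zz.2)
  have hz : orderOf z = 2 := Invol.orderOf_two_iff.2 S.zz
  have fus : ∀ x, IsConj z (ρ x) → IsConj (u 8) x := fun x h => by
    have o := (Invol.orderOf_of_isConj h).symm.trans hz
    rcases inv_u x (hi (by rw [map_mul, Invol.mul_self_of o, map_one])) with e | e | e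
    · exact absurd (by rw [e, map_one]) (Invol.ne_one_of o)
    · exact e
    · obtain ⟨k, k1, k2⟩ := ex7_u
      obtain ⟨g, e⟩ := isConj_iff.1 (h.trans (ρ.map_isConj e).symm).symm
      have m : κ g (ρ k) ∈ centralizer {z} := memC.2 (e ▸ ((k2.map ρ).map (κ g)).eq)
      have := (centralizer {z}).orderOf_dvd_natCard m
      rw [hc, MulEquiv.orderOf_eq, orderOf_injective ρ hi, k1] at this
      exact absurd this (by decide)
  have hK : centralizer {z} ≤ ρ.range := fun x hx => by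
    obtain ⟨m, m1, rfl⟩ := S.L.sur (memC.1 hx)
    exact ⟨m, r2 m m1⟩
  have T := eq_top_of_pc (K := ρ.range) hz hK (by
    rintro _ ⟨x, rfl⟩ h
    obtain ⟨g, e⟩ := isConj_iff.1 (fus x h)
    exact ⟨ρ g, ⟨g, rfl⟩, by rw [← e, ← r0]; simp⟩) (fun w h1 h2 h3 => by
    obtain ⟨m, m1, rfl⟩ := S.L.sur h1
    rw [← r2 m m1] at h2 h3 ⊢
    have := ρ.map_isConj (prod_u m m1 (fus m h2) fun e => h3 (e ▸ r0))
    rwa [map_mul, r0] at this) hs hq (by
      simpa [gl, pow_succ, mul_assoc] using S.idH (w := [6, 7, 6, 7, 6, 7, 6, 7]) (w' := []) (by decide +kernel))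
    fun h => neS (v := [6, 7]) (w := [7, 6]) (by decide +kernel) (by simpa using ((S.L.comm (cz rfl) (cz rfl)).1 h).eq)
  exact ⟨MulEquiv.ofBijective ρ ⟨hi, MonoidHom.range_eq_top.1 T⟩, u8 ▸ r0⟩

end Sw

theorem card_omega6 : Nat.card (Omega (ZMod 2) (quadFormMinus 2 (ZMod 2) 1 1)) = 25920 := by
  rw [← Geom.coe_quadMinus, Nat.card_congr (Geom.omegaEquiv _).toEquiv]; exact card_Om

theorem exists_sw {z : G} {Q : Subgroup G} (h : LE Q z) (hQ : Nat.card Q = 2 ^ 7)
    (hc : Nat.card (centralizer ({z} : Set G)) = 3317760) (hf : ∃ u ∈ Q, IsConj z u ∧ u ≠ z) :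
    ∃ v f, Sw z v f ∧ IsConj z (f (u 6)) ∧ IsConj z (f (u 7)) := by
  have e : u 19 * u 8 * (u 19)⁻¹ = u 7 :=
    mul_inv_eq_iff_eq_mul.2 (by simpa using idS (v := [8, 19]) (w := [19, 7]) (by decide +kernel))
  have hp := le_Q0.pair (g := u 19) (by rw [card_Q0]; decide) (e ▸ mem_genL u (by decide))
    (e ▸ by simpa using neS (v := [7]) (w := [8]) (by decide +kernel))
  rw [e] at hp
  obtain ⟨f, P, L, h1, h2, h3⟩ := exists_loc h hQ hc hf hp card_Q0 card_cent_z
  have vz : u 11 * u 8 * (u 11)⁻¹ = u 8 * u 7 :=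
    mul_inv_eq_iff_eq_mul.2 (by simpa using idS (v := [8, 11]) (w := [11, 7, 8]) (by decide +kernel))
  obtain ⟨v, v1, v2, v3⟩ := L.swapper h1 hp h2 h3 (v' := u 11) (BG.mem_cj'.2 ⟨u 8 * u 6,
    mul_mem le_Q0.zQ (mem_genL u (by decide)), mul_inv_eq_iff_eq_mul.2 (by
      simpa [mul_assoc] using idS (v := [6, 8, 19]) (w := [19, 11]) (by decide +kernel))⟩) vz cent_zs (by
    rintro _ (rfl | rfl | rfl)
    · simpa using idS (v := [12, 12, 12]) (w := []) (by decide +kernel)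
    · simpa [mul_assoc] using idS (v := [15, 12, 15, 12, 15, 12]) (w := []) (by decide +kernel)
    · simpa using idS (v := [18, 18, 18]) (w := []) (by decide +kernel))
  have qs : u 6 * u 7 * (u 6)⁻¹ = u 7 * u 8 :=
    mul_inv_eq_iff_eq_mul.2 (by simpa using idS (v := [7, 6]) (w := [6, 8, 7]) (by decide +kernel))
  have hs : IsConj z (f (u 7)) := let ⟨g, e, _⟩ := h1.tr; isConj_iff.2 ⟨g, e⟩
  refine ⟨v, f, ⟨L, v1, v2, v3, L.braid h1 (cz rfl) v1 v2 v3 (fun m => cv) (fun m a b => ?_) (cz rfl)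
    (by simpa using idS (v := [6, 6]) (w := []) (by decide +kernel)) qs
    (by simpa [pow_succ, mul_assoc] using idS (v := [11, 6, 11, 6, 11, 6]) (w := []) (by decide +kernel))⟩, hs.trans ?_, hs⟩
  · have e : u 6 * (u 7 * u 8) * (u 6)⁻¹ = u 7 :=
      mul_inv_eq_iff_eq_mul.2 (by simpa [mul_assoc] using idS (v := [8, 7, 6]) (w := [6, 7]) (by decide +kernel))
    exact e ▸ (b.mul_right a).map (MulAut.conj (u 6))
  · refine isConj_iff.2 ⟨f (u 22), ?_⟩
    rw [← L.cj (cz rfl) (cz rfl)]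
    exact congrArg f (mul_inv_eq_iff_eq_mul.2 (by simpa using idS (v := [7, 22]) (w := [22, 6]) (by decide +kernel)))

omit [Finite Cfsg.Spor.Suz] in
theorem suz_type (z : G) (hz : orderOf z = 2) (Q : Subgroup (centralizer ({z} : Set G))) [hN : Q.Normal]
    (hF : Cfsg.generalizedFittingSubgroup (centralizer ({z} : Set G)) = Q) (hQ : Cfsg.IsExtraspecial 2 Q)
    (hcard : Nat.card Q = 2 ^ 7)
    (e : (centralizer ({z} : Set G)) ⧸ Q ≃* Cfsg.Omega (ZMod 2) (Cfsg.quadFormMinus 2 (ZMod 2) 1 1))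
    (hnwc : ∃ g : G, (∃ hq : g * z * g⁻¹ ∈ centralizer ({z} : Set G),
      (⟨g * z * g⁻¹, hq⟩ : centralizer ({z} : Set G)) ∈ Q) ∧ g * z * g⁻¹ ≠ z) :
    ∃ ρ : Cfsg.Spor.Suz ≃* G, ρ (SuzM.g 0) = z := by
  have := mdU.finite
  have h2c : centralizer (Q : Set (centralizer ({z} : Set G))) ≤ Q := hF ▸ S1265.result
  have i := subtype_injective (centralizer ({z} : Set G))
  have m : ∀ x (hx : x ∈ centralizer {z}), (∀ y ∈ Q.map (centralizer {z}).subtype, Commute x y) →
      x ∈ Q.map (centralizer {z}).subtype := fun x hx h =>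
    ⟨⟨x, hx⟩, h2c fun y hy => Subtype.ext (h y ⟨y, hy, rfl⟩).symm.eq, rfl⟩
  have hz' := m z (memC.2 rfl) fun y hy => (memC.1 (map_subtype_le Q hy)).symm
  have E := ES.of_mem (PGrp.ES_of_mulEquiv hQ (Q.equivMapOfInjective _ i)) hz' (Invol.ne_one_of hz) (map_subtype_le Q)
  have hc : Nat.card (centralizer ({z} : Set G)) = 3317760 := by
    rw [card_eq_card_quotient_mul_card_subgroup Q, Nat.card_congr e.toEquiv, card_omega6, hcard]; rfl
  obtain ⟨g, ⟨hq, hq'⟩, hne⟩ := hnwc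
  obtain ⟨v, f, S, h1, h2⟩ := exists_sw ⟨E, fun x hx => E.cen x (m x (memC.2 (hx z hz')) hx) hx, fun x hx =>
    mem_normalizer_fintype fun _ ⟨y, hy, e⟩ => e ▸ ⟨_, hN.conj_mem y hy ⟨x, memC.2 hx⟩, rfl⟩⟩
    (by rw [card_map_of_injective i, hcard]) hc ⟨_, ⟨_, hq', rfl⟩, isConj_cj g z, hne⟩
  exact S.iso hc h1 h2

end Cfsg.Agent.SuzR
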