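import Cfsg.Agent.SuzR.G1
import Cfsg.Agent.Known.U43Eq
import Cfsg.Agent.S0283
import Cfsg.Agent.S0288
import Cfsg.Agent.S1258
import Cfsg.Agent.Solv.Fitting

/-! The class `3A` of the Suzuki group seen from `C(a)` (`G2.red`), `N(3A) = 3.U4(3).2` (`G2.loc3`), transport to groups of
Suzuki type (`exists_md0`, `type3`) (generated certificate, helper20). -/

set_option autoImplicit false
set_option maxRecDepth 100000
set_option exponentiation.threshold 100000

namespace Cfsg.Agent.SuzR

open Cfsg.Agent.Comp Cfsg.Agent.Known Subgroup Equiv Cfsg.Agent.Known.Mdl MulAction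
open scoped commutatorElement

theorem ev_inv {X : Type*} [Group X] (z : ℕ → X) (r : List ℕ) : Spor.ev (fun i => (z i)⁻¹) r = (W z r)⁻¹ := by
  induction r with
  | nil => simp
  | cons a r ih => rw [W_cons, mul_inv_rev, ← ih]; rfl

theorem lifts_fin {X H : Type*} [Group H] [Finite H] {G : Type} [Group G] {g : ℕ → G} {nl : ℕ} {rels : List (List ℕ)}
    (hL : Lifts g nl rels) [Group X] (π : X →* H) (z : ℕ → X) (h : ∀ r ∈ rels, π (W z r) = 1) :
    ∃ ψ : G →* H, ∀ i < nl, ψ (g i) = (π (z i))⁻¹ := by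
  let e : Shrink.{0} H ≃* H := Shrink.mulEquiv
  obtain ⟨ψ, h1⟩ := hL _ (fun i => ((e.symm.toMonoidHom.comp π) (z i))⁻¹) fun r hr => by
    rw [ev_inv, ← map_W, MonoidHom.comp_apply, h r hr, map_one, inv_one]
  exact ⟨e.toMonoidHom.comp ψ, fun i hi => by simp [h1 i hi]⟩

theorem qs_of_quot {X H : Type*} [Group X] [Finite X] [Group H] [IsSimpleGroup H] (hH : ¬ IsMulCommutative H)
    {Y : Subgroup X} [Y.Normal] (e : X ⧸ Y ≃* H) (h1 : Y ≤ center X) (h2 : Y ≤ commutator X) : IsQuasisimple X := by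
  have hs := e.isSimpleGroup
  have hn : ¬ IsMulCommutative (X ⧸ Y) := fun h => hH ⟨⟨fun a b => e.symm.injective (by
    rw [map_mul, map_mul]; exact h.1.1 _ _)⟩⟩
  obtain rfl : Y = center X := le_antisymm h1 (by
    rw [← QuotientGroup.ker_mk' Y, ← Subgroup.map_eq_bot_iff]
    refine (((inferInstance : (center X).Normal).map _ (QuotientGroup.mk'_surjective Y)).eq_bot_or_eq_top).resolve_right
      fun h => hn ⟨⟨fun a b => ?_⟩⟩
    obtain ⟨c, hc, rfl⟩ : a ∈ (center X).map (QuotientGroup.mk' Y) := h ▸ mem_top _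
    obtain ⟨d, rfl⟩ := QuotientGroup.mk'_surjective Y b
    rw [← map_mul, ← map_mul, mem_center_iff.1 hc])
  exact ⟨⟨(sup_eq_left.2 h2).symm.trans (S1258.result hs hn).1⟩, hs⟩

namespace G2

open G1

def F3 : List ℕ := [0,1,2,3,8,9,10,11,16,17,18,19,24,25,26,27,32,33,34,35,40,41,42,43,48,49,50,51,56,57,58,59,64,65,66,67,72,73,
  74,75,80,81,82,83,88,89,90,91,128,129,130,131,136,137,138,139,144,145,146,147,152,153,154,155,176,177,178,179,
  184,185,186,187,240,241,242,243,248,249,250,251,1408,1409,1410,1411,1412,1413,1414,1415,1416,1417,1418,1419,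
  1420,1421,1422,1423,1424,1425,1428,1429,1432,1433,1436,1437,1448,1449,1452,1453,1456,1457,1458,1459,1464,1465,
  1468,1469,1472,1473,1474,1475,1480,1481,1482,1483,1496,1497,1498,1499,1664,1665,1668,1669,1672,1673,1676,1677,
  1678,1679,1688,1689,1690,1691,1692,1693,1694,1695,1696,1697,1708,1709,1710,1711,1770,1771,1772,1773,1776,1777,
  1778,1779,1780,1781]

noncomputable def aF3 : ℕ := (nat_lit 0x37aef4de7bcb78ef0ddbbb375eead5fabb56eacd43a834fe9ed3ba734de9ad33a6347e8ed1ba3344e88d0ba1340e80bb776aecdd8b9772ae4dc8b8770ae0dc0b7b6f2dcdb8b676cad8db0b5b6b2d4da8b3b672ccd98b2b652c8d90b1f63ac6d8cb1762ac4d88b0f61ac2d84b0760ac0d801f63e87c8f81e63c8788f01762e85c8b81662c8588b01362684c8981262484889011622844888106208408800b61682c8580a61482885009612824848086108208400760e81c8380660c8188300560a814828046088108200360680c818026048088100160280480800600800800)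

noncomputable def hF3 : ℕ → ℕ := fun k => force k (ph 4161 346 8 255 (nat_lit 0x180512000905000006020200010001020500030207020c0601060b050a14140509080302060704010e020b29000f0105000709070400120200060216010103010002040106070604031b07010303000a0005012e050d050201060400001006050f040913020407130518000009040304060016020f050105030001020100001b0204030501030001021b03000102060402010002000703021c03020d05050301060a00030206030d0a011b00110303090700011101010d1403030a1d0400031a010e0606021b0c02000300030400030300111c0b05000200090000100503050001020007000901040202010400020806000502000e00110800010502050307060206060c0a07000005031c05040014050e00040b1a1f0a090104000113000600020008212c030419000a0100000306000005000d0c0003000004030506030a00010500010c010a0201070c09040a02030001010209000d0b0006))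

def cw3 : ℕ := (nat_lit 0x80003980025c60)

def rt3 : List (ℕ × List ℕ) := [(1,[14,18,17,15,14,13,16,15,14,19,14,18,13,16,15,14,15,14,13,18,14,13,14,15,16,17]),(2,[14,18,19,14,17,13,16,
  15,14,19,15,13,14,18,13,16,15,14,15,13,16,14,17,15,16,13,14])]

def cs3 : List ℕ := [1,265,502,6563,6866,7115]

def xw : List (List ℕ) := [[19,15,13,14,15,13,16,15,14,19,18,15,14,18,13,14,15,16,15,13,14,18,13,14,18,16,15,16],[16,15,16,18,14,13,18,
  14,13,15,16,15,14,13,18,14,15,18,19,14,15,16,13,15,14,13,15,19],[14,18,15,13,16,15,14,19,14,18,13,16,15,14,16,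
  15,14,13,14,18,13,14,16,13,15],[15,13,16,14,13,18,14,13,14,15,16,14,15,16,13,18,14,19,14,15,16,13,15,18,14],
  [14,19,18,14,15,16,15,14,19,13,14,18,13,16,15,14,15,16,15,14,13,14,18,13,14,16],[16,14,13,18,14,13,14,15,16,
  15,14,15,16,13,18,14,13,19,14,15,16,15,14,18,19,14],[14,19,18,14,18,15,16,15,14,19,15,13,14,18,15,14,13,16,15,
  14,16,15,14,13,14,18,13,14,15,16],[13,14,19,14,13],[27]]

def ca : List ℕ := [15,16,15,16,14,13,14,18,13,14,15,16,15,14,15,16,13,14,18,14,19,14,13,15]

def cb : List ℕ := [15,16,14,13,18,14,15,16,15,18,19,14,13,15,14,18]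

def l3 : List ℕ := [23, 24, 25, 26]

/-- commutators of the basis of `Q0` with an element of order `3`. -/
def cms (x : List ℕ) : List (List ℕ) := mapL (fun q => q :: appendL x (q :: q :: q :: appendL x x)) [6, 7, 8, 9, 10, 11]

variable {Γ : Type*} [Group Γ] {φ : Γ →* Perm ℕ} {y : ℕ → Γ} (M : Md φ y)
include M

theorem memR : ∀ g ∈ Spor.genL (yS y) l3, ∃ e < 81, g = W (yS y) (wd 3 l3 e) :=
  haveI := M.finite
  pc_mem (fun _ _ => (mS M).eq) three_pos l3 (show pcOK (eqB acS BS) 3
    (fun s u => get 5 31 cw3 (Nat.add (Nat.mul 4 (Nat.sub s 23)) (Nat.sub u 23))) l3 = true by decide +kernel)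

theorem card_R : Nat.card (Spor.genL (yS y) l3) = 3 ^ 4 := le_antisymm (card_le_of_enum (memR M))
  (le_card_sub (mS M) [[23], [24], [25], [26]] (fun w hw => W_mem _ fun a ha => Spor.mem_genL _
    (by revert a w; decide)) [0] 82 (by decide +kernel))

theorem red {x : Γ} (hx : x ∈ centralizer {y 0}) (h3 : orderOf x = 3)
    (h8 : Nat.card ↥⁅Spor.genL (yS y) lQ, zpowers x⁆ ≤ 8) : IsConj (yS y 27) x := by
  haveI := M.finite
  have x3 : x ^ 3 = 1 := h3 ▸ pow_orderOf_eq_one x
  obtain ⟨g, hg', hg⟩ := exists_conj_mem_sylow (K := centralizer {y 0}) (j := 1) Nat.prime_three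
    (Spor.genL_le fun i hi => memC M (by revert i; decide)) (card_R M) (card_C M) (by norm_num) hx (by simpa using x3)
  obtain ⟨e, he, e1⟩ := memR M _ hg
  have e3 : W (yS y) (wd 3 l3 e) ^ 3 = 1 := by rw [← e1, conj_pow, x3]; simp
  have k := allLt_iff.1 (show allLt 81 (fun e => bor (bor (Nat.beq e 0) (memL e (mapL (fun c => Nat.mod c 81) cs3)))
    (bor (band (Nat.blt 0 1782) (bif' (Nat.beq (actW acS (appendL (wd 3 l3 e) (appendL (wd 3 l3 e) (wd 3 l3 e))) 0)
      (actW acS [] 0)) false true)) (band (allL [0] fun b => Nat.blt b 1782) (Nat.ble 9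
      (chainL (fun j => actW acS (nthL [] (cms (wd 3 l3 e)) j)) (fun a => a) 130 [0]
        (List.range (lenL (cms (wd 3 l3 e))))))))) = true by decide +kernel) e he
  simp only [bor_eq, Bool.or_eq_true, nbeq, memL_iff, mapL_eq] at k
  rcases k with (rfl | k) | k | k
  · rw [wd_zero, conj_eq_one_iff] at e1
    rw [e1, orderOf_one] at h3; omega
  · obtain ⟨c, hc, rfl⟩ := List.mem_map.1 k
    have := cj_of (mS M) (x := [27]) (rt := rt3) (cs := cs3) (l := l3) (p := 3) (q := 81) (by decide +kernel) c hc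
    rw [W_cons, W_nil, mul_one] at this
    exact this.trans (e1 ▸ isConj_iff.2 ⟨g, rfl⟩ : IsConj x _).symm
  · refine absurd ?_ (ne_of (mS M) k)
    rw [appendL_eq, appendL_eq, W_append, W_append, W_nil, ← e3, pow_three]
  · refine absurd ((le_card_sub (mS M) (K := ⁅Spor.genL (yS y) lQ, zpowers x⁆.map (MulAut.conj g).toMonoidHom) _
      (fun w hw => ?_) _ _ k).trans ((Known.card_map_conj _ _).trans_le h8)) (by norm_num)
    rw [cms, mapL_eq] at hw
    obtain ⟨q, hq, rfl⟩ := List.mem_map.1 hw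
    have q4 := (mS M).eq (allL_iff.1 (show allL [6, 7, 8, 9, 10, 11] (fun q => eqB acS BS [q, q, q, q] []) = true by
      decide +kernel) q hq)
    simp only [W_cons, W_nil, mul_one, appendL_eq, W_append] at q4 ⊢
    rw [map_commutator, map_conj_zp, e1]
    have := commutator_mem_commutator (H₁ := (Spor.genL (yS y) lQ).map (MulAut.conj g).toMonoidHom) (g₁ := yS y q)
      ⟨_, (mem_normalizer_iff''.1 (norm_Q M hg') _).1 (Spor.mem_genL _ (List.mem_append_left [12] hq)), by simp [mul_assoc]⟩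
      (mem_zpowers (W (yS y) (wd 3 l3 e)))
    rw [commutatorElement_def, inv_eq_of_mul_eq_one_right q4, inv_eq_of_mul_eq_one_right ((pow_three _).symm.trans e3)]
      at this
    simpa only [mul_assoc] using this

theorem u3 : orderOf (yS y 27) = 3 := by
  simpa using ord_of (mS M) (w := [27]) (a := 4) Nat.prime_three (by decide +kernel)

set_option maxHeartbeats 0 in
theorem upN : Nat.card (normalizer (zpowers (yS y 27) : Set Γ)) ≤ 162 * 120960 := by
  haveI := M.finite
  have h0 : ∀ g ∈ normalizer (zpowers (yS y 27) : Set Γ), ∀ p, φ (W (yS y) [27]) p = p →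
      φ (W (yS y) [27]) (φ g p) = φ g p := fun g hg p h => by
    rw [W_cons, W_nil, mul_one] at h ⊢
    have := fix_conj (g := g) ((zpowers_le (H := fixB φ [p])).2 (List.forall_mem_singleton.2 h)
      ((mem_normalizer_iff''.1 hg _).1 (mem_zpowers _)) p List.mem_cons_self)
    rwa [show g * (g⁻¹ * yS y 27 * g) * g⁻¹ = yS y 27 by group] at this
  refine (card_step (φ := φ) (m := 120960) _ 1776 F3 (fun g hg => fix_mem' (mS M) (w := [27]) (by decide +kernel)
    (M.lt g (by decide)) (h0 g hg _ (fix_of (mS M) (by decide +kernel)))) ?_).trans (by decide +kernel)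
  refine set_step (mS M) (K := fixB φ [1776]) [[18], [28]] (List.forall_mem_cons.2 ⟨List.forall_mem_singleton.2
    (fix_of (mS M) (by decide +kernel)), List.forall_mem_singleton.2 (List.forall_mem_singleton.2
    (fix_of (mS M) (by decide +kernel)))⟩) (r := 162) (a := aF3) (b := 2080) hF3 (fx1 M) inf_le_right (fun g hg i hi => ?_)
    (by decide +kernel)
  have h1 := allLt_iff.1 (show allLt 162 (fun i => band (Nat.blt (get 11 2047 aF3 i) 1782)
    (Nat.beq (actW acS [27] (get 11 2047 aF3 i)) (get 11 2047 aF3 i))) = true by decide +kernel) i hi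
  have h2 : get 11 2047 aF3 i < 1782 := by rw [band_eq, Bool.and_eq_true, nblt] at h1; exact h1.1
  obtain ⟨j, hj, e⟩ := fix_pack (mS M) (w := [27]) (r := 162) (a := aF3) (by decide +kernel) (M.lt g h2)
    (h0 g hg.1 _ (fix_of (mS M) h1))
  exact ⟨j, hj, e.symm⟩

theorem memU {w : List ℕ} (h : eqB acS BS (appendL w [27]) (appendL [27] w) = true) :
    W (yS y) w ∈ centralizer (zpowers (yS y 27) : Set Γ) := by
  simpa [mem_cent_zp] using eq_app (mS M) h

theorem rel2 : (centralizer (zpowers (yS y 27) : Set Γ)).relIndex (normalizer (zpowers (yS y 27) : Set Γ)) = 2 := by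
  haveI := M.finite
  have h1 : yS y 16 * yS y 27 = yS y 27 ^ 2 * yS y 16 := by
    simpa [sq, mul_assoc] using (mS M).eq (u := [16, 27]) (v := [27, 27, 16]) (by decide +kernel)
  refine relIndex_eq_two_iff_exists_notMem_and.2 ⟨_, mem_norm_zp h1, fun h => ?_, fun b hb => ?_⟩
  · exact ne_of (mS M) (u := [16, 27]) (v := [27, 16]) (b := 4) (by decide +kernel) (by simpa using mem_cent_zp.1 h)
  · obtain ⟨s, h0, hs, e⟩ := exists_of_norm Nat.prime_three (u3 M) hb
    interval_cases s
    · exact Or.inr (mem_cent_zp.2 (by simpa using e))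
    · refine Or.inl (mem_cent_zp.2 ?_)
      rw [mul_assoc, h1, ← mul_assoc, conj_pow_of e, ← pow_mod_orderOf, u3 M, mul_assoc]; simp

theorem loc3 {Y : Subgroup Γ} (hY : Y = zpowers (yS y 27)) [(Y.subgroupOf (centralizer (Y : Set Γ))).Normal] :
    (normalizer (Y : Set Γ)).index = 22880 ∧ IsQuasisimple (centralizer (Y : Set Γ)) ∧
      Nonempty (↥(centralizer (Y : Set Γ)) ⧸ Y.subgroupOf (centralizer (Y : Set Γ)) ≃* U43P.G) ∧
      (centralizer (Y : Set Γ)).relIndex (normalizer (Y : Set Γ)) = 2 := by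
  subst hY
  haveI := M.finite
  letI := actOf φ
  let C := centralizer (zpowers (yS y 27) : Set Γ)
  have hz : ∀ j, W (yS y) (nthL [] xw j) ∈ C := fun j => by
    rcases nthL_mem_or [] xw j with e | e
    · exact memU M (allL_iff.1 (show allL xw (fun w => eqB acS BS (appendL w [27]) (appendL [27] w)) = true by
        decide +kernel) _ e)
    · rw [e]; exact one_mem _
  obtain ⟨ψ, hψ⟩ := lifts_fin U43P.lifts (QuotientGroup.mk' ((zpowers (yS y 27)).subgroupOf C))
    (fun j => ⟨_, hz j⟩) fun r hr => by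
      obtain ⟨t, -, ht⟩ := anyLt_iff.1 (allL_iff.1 (show allL U43P.rels (fun r => anyLt 3 fun t =>
        eqB (fun j => actW acS (nthL [] xw j)) BS r (rp 8 t [])) = true by decide +kernel) r hr)
      have := eq_of_eqB (isCanon_PtN 1782).func ((mS M).hy.words xw) (mS M).base ht
      rw [W_rp, W_nil, mul_one] at this
      refine (QuotientGroup.eq_one_iff _).2 (mem_subgroupOf.2 ?_)
      rw [← coe_subtype, map_W]
      exact this ▸ pow_mem (W_mem _ (List.forall_mem_singleton.2 (mem_zpowers _))) t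
  haveI : IsSimpleGroup U43P.G := by
    let := Fintype.ofFinite (GaloisField 3 2)
    have c : Fintype.card (GaloisField 3 2) = 9 := by
      rw [← Nat.card_eq_fintype_card, GaloisField.card 3 2 (by decide)]; rfl
    obtain ⟨e⟩ := U43T.equiv c
    have := S0283.result (F := GaloisField 3 2) (q := 3) c 4 (by decide) (by decide)
    exact e.symm.isSimpleGroup
  have hi : Function.Injective ψ := (MonoidHom.ker_eq_bot_iff _).1 (ψ.normal_ker.eq_bot_or_eq_top.resolve_right fun h => by
    have h1 : ψ (U43P.g 7) = 1 := (h ▸ mem_top _ : _ ∈ ψ.ker)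
    rw [hψ 7 (by decide), inv_eq_one] at h1
    have h2 := (zpowers_le (H := fixB φ [0])).2 (List.forall_mem_singleton.2 (by
      simpa using fix_of (mS M) (w := [27]) (p := 0) (by decide +kernel)))
      (mem_subgroupOf.1 ((QuotientGroup.eq_one_iff _).1 h1)) 0 List.mem_cons_self
    exact absurd (((mS M).applyW _ (by decide)).symm.trans h2) (by decide +kernel))
  have hu : zpowers (yS y 27) ≤ C := zpowers_le.2 (mem_cent_zp.2 rfl)
  have c1 := card_eq_card_quotient_mul_card_subgroup ((zpowers (yS y 27)).subgroupOf C)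
  rw [Nat.card_congr (subgroupOfEquivOfLe hu).toEquiv, Nat.card_zpowers, u3 M] at c1
  have c2 := Nat.card_le_card_of_injective ψ hi
  have c3 := (C.subgroupOf (normalizer (zpowers (yS y 27) : Set Γ))).index_mul_card
  rw [Nat.card_congr (subgroupOfEquivOfLe (centralizer_le_normalizer _)).toEquiv, show index _ = 2 from rel2 M] at c3
  change 2 * Nat.card C = _ at c3
  have c4 := upN M
  have c5 := (normalizer (zpowers (yS y 27) : Set Γ)).index_mul_card
  have c6 := U43P.card
  let e := (MulEquiv.ofBijective ψ ((Nat.bijective_iff_injective_and_card ψ).2 ⟨hi, by omega⟩)).symm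
  rw [M.card, show Nat.card (normalizer (zpowers (yS y 27) : Set Γ)) = 19595520 by omega] at c5
  refine ⟨by omega, qs_of_quot (not_comm_of_card c6 (by norm_num)) e (fun a ha => mem_center_iff.2 fun b =>
    Subtype.ext (b.2 _ ha).symm) ?_, ⟨e⟩, rel2 M⟩
  have ha := memU M (w := ca) (by decide +kernel)
  have hb := memU M (w := cb) (by decide +kernel)
  have h1 := eq_app (mS M) (a := ca) (b := cb) (c := 27 :: cb) (d := ca) (by decide +kernel)
  rintro ⟨_, hk⟩ ⟨k, rfl⟩
  have : _ ∈ commutator C := zpow_mem (commutator_mem_commutator (mem_top (⟨_, ha⟩ : C)) (mem_top (⟨_, hb⟩ : C))) k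
  convert this using 1
  refine Subtype.ext ?_
  show _ = (W _ ca * W _ cb * (W _ ca)⁻¹ * (W _ cb)⁻¹) ^ k
  rw [h1, W_cons]; simp

end G2

section
variable {G : Type*} [Group G] [Finite G] {z : G} {Q : Subgroup (centralizer ({z} : Set G))} [Q.Normal]

theorem exists_md0 (h : Spor.IsoSuz G) (hz : orderOf z = 2) (hcard : Nat.card Q = 2 ^ 7)
    (e : centralizer ({z} : Set G) ⧸ Q ≃* Omega (ZMod 2) (quadFormMinus 2 (ZMod 2) 1 1)) :
    ∃ (φ : G →* Perm ℕ) (y : ℕ → G), Md φ y ∧ y 0 = z := by
  obtain ⟨φ, y, M⟩ := exists_md h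
  rcases G1.inv_cl M (w := z) (by rw [← sq, ← hz, pow_orderOf_eq_one]) with h1 | h1 | h1
  · rw [h1, orderOf_one] at hz; omega
  · obtain ⟨g, rfl⟩ := isConj_iff.1 h1
    obtain ⟨φ', M'⟩ := M.cj g⁻¹
    exact ⟨_, _, M', by rw [inv_inv]⟩
  · obtain ⟨g, hg⟩ := isConj_iff.1 h1
    obtain ⟨k, hk, hc⟩ := G1.ex7 M
    have c1 := orderOf_dvd_natCard (⟨g * k * g⁻¹, mem_centralizer_singleton_iff.2 (by
      rw [← hg, conj_mul, conj_mul, hc.eq])⟩ : centralizer ({z} : Set G))
    have c2 := card_subgroup_dvd_card (Omega (ZMod 2) (quadFormMinus 2 (ZMod 2) 1 1))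
    rw [S0288.result (ZMod.card 2) 3 (by decide) 1 1 (by decide)] at c2
    rw [← orderOf_coe, card_eq_card_quotient_mul_card_subgroup Q, hcard, Nat.card_congr e.toEquiv,
      show orderOf (g * k * g⁻¹) = 7 from ((MulAut.conj g).orderOf_eq k).trans hk] at c1
    exact absurd (c1.trans (Nat.mul_dvd_mul_right c2 _)) (by decide)

theorem type3 (h : Spor.IsoSuz G) (hz : orderOf z = 2) (hF : generalizedFittingSubgroup (centralizer ({z} : Set G)) = Q)
    (hcard : Nat.card Q = 2 ^ 7) (e : centralizer ({z} : Set G) ⧸ Q ≃* Omega (ZMod 2) (quadFormMinus 2 (ZMod 2) 1 1))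
    {X : Subgroup (centralizer ({z} : Set G))} (hX : Nat.card X = 3) (hQX : Nat.card ↥⁅Q, X⁆ = 8) :
    ∃ (φ : G →* Perm ℕ) (y : ℕ → G), Md φ y ∧ X.map (centralizer ({z} : Set G)).subtype = zpowers (yS y 27) := by
  obtain ⟨φ, y, M, rfl⟩ := exists_md0 h hz hcard e
  obtain ⟨x, rfl, hx⟩ := exists_zp Nat.prime_three hX
  haveI : ((Spor.genL (yS y) G1.lQ).subgroupOf (centralizer {y 0})).Normal := normal_subgroupOf_of_le_normalizer (G1.norm_Q M)
  have h1 : (Spor.genL (yS y) G1.lQ).subgroupOf (centralizer {y 0}) ≤ Q := hF ▸ le_sup_of_le_right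
    ((Solv.le_pCore (IsPGroup.of_card ((Nat.card_congr (subgroupOfEquivOfLe (G1.Q_le M)).toEquiv).trans
      (G1.card_Q M)))).trans Solv.pCore_le_fitting)
  obtain ⟨g, hg⟩ := isConj_iff.1 (G2.red M x.2 ((orderOf_coe x).trans hx) (by
    rw [← hQX, ← card_map_of_injective (subtype_injective _), map_commutator, MonoidHom.map_zpowers]
    exact card_le_of_le (commutator_mono ((map_subgroupOf_eq_of_le (G1.Q_le M)).ge.trans (map_mono h1)) le_rfl)))
  obtain ⟨φ', M'⟩ := M.cj g⁻¹
  refine ⟨_, _, M', ?_⟩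
  rw [MonoidHom.map_zpowers, coe_subtype, ← hg, inv_inv]
  exact congrArg zpowers (map_W y (MulAut.conj g).toMonoidHom _)

end

end Cfsg.Agent.SuzR
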