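import Cfsg.Agent.SuzR.F1

/-! Sylow 7-subgroups of the Suzuki group: `syl7` (generated certificate, helper20). -/

set_option autoImplicit false
set_option maxRecDepth 100000
set_option exponentiation.threshold 100000

namespace Cfsg.Agent.SuzR

open Cfsg.Agent.Comp Cfsg.Agent.Known Subgroup Equiv Cfsg.Agent.Known.Mdl

theorem equiv_prod_of_central {K H : Type*} [Group K] [Finite K] [Group H] (ψ : K →* H) (hs : Function.Surjective ψ)
    (hz : ψ.ker ≤ center K) (hc : (Nat.card ψ.ker).Coprime (Nat.card H)) : Nonempty (K ≃* ψ.ker × H) := by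
  obtain ⟨L, hL⟩ := Subgroup.exists_right_complement'_of_coprime (N := ψ.ker) (by
    rwa [index_ker, MonoidHom.range_eq_top.2 hs, card_top])
  let f : ψ.ker × L →* K := ψ.ker.subtype.noncommCoprod L.subtype fun a b => (mem_center_iff.1 (hz a.2) b).symm
  exact ⟨(MulEquiv.ofBijective f hL).symm.trans ((MulEquiv.refl _).prodCongr
    (hL.symm.QuotientMulEquiv.symm.trans (QuotientGroup.quotientKerEquivOfSurjective ψ hs)))⟩

section
variable {Γ : Type*} [Group Γ] {φ : Γ →* Perm ℕ} {N k n : ℕ} {y : ℕ → Γ} {ac : ℕ → ℕ → ℕ} {B₀ : List ℕ}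

/-- the points of a model as a keyed set for a list of words. -/
def keyedW (M : Mdl φ N k n y ac B₀) (ws : List (List ℕ)) :
    @Keyed Γ _ (fun i g => g = W y (nthL [] ws i)) ℕ (actOf φ) :=
  letI := actOf φ
  { P := PtN N
    act := fun i => actW ac (nthL [] ws i)
    key := fun a => a
    isAct := M.hy.words ws
    can := (isCanon_PtN N).canon
    inj := fun _ _ _ _ h h' e => h.1.symm.trans (e.trans h'.1) }

theorem mem_tail {g : Γ} {a b : ℕ} {l : List ℕ} (ha : g ∈ fixB φ [a]) (hb : b ≠ a) (h : φ g b ∈ l) : φ g b ∈ l.erase a := by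
  refine (List.mem_erase_of_ne fun e => hb ?_).2 h
  exact (φ g).injective (e.trans (ha a List.mem_cons_self).symm)

theorem ne_of (M : Mdl φ N k n y ac B₀) {u v : List ℕ} {b : ℕ}
    (h : band (Nat.blt b N) (bif' (Nat.beq (actW ac u b) (actW ac v b)) false true) = true) : W y u ≠ W y v := fun e => by
  rw [band_eq, Bool.and_eq_true, nblt, bif'_eq] at h
  rw [← M.applyW _ h.1, ← M.applyW _ h.1, e, if_pos (nbeq.2 rfl)] at h
  exact Bool.false_ne_true h.2

def tabsW (ac : ℕ → ℕ → ℕ) (ws : List (List ℕ)) (L : List ℕ) (N : ℕ) (vs : ℕ → ℕ) (act : ℕ → ℕ → ℕ) : Bool :=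
  allLt (lenL L) fun j => allLt N fun i => force (act j i) fun a =>
    band (Nat.blt a N) (Nat.beq (actW ac (nthL [] ws (nthL 0 L j)) (vs i)) (vs a))

theorem tabsOK_keyedW (M : Mdl φ N k n y ac B₀) (ws : List (List ℕ)) (L : List ℕ) (N' : ℕ) (vs : ℕ → ℕ)
    (a : ℕ → ℕ → ℕ) : @tabsOK Γ ℕ _ (actOf φ) _ (keyedW M ws) L N' vs a = tabsW ac ws L N' vs a := rfl

theorem ord_of (M : Mdl φ N k n y ac B₀) {w : List ℕ} {p a : ℕ} (hp : p.Prime)
    (h : band (allL B₀ fun b => Nat.beq (iter (actW ac w) p b) b)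
      (band (Nat.blt a N) (bif' (Nat.beq (actW ac w a) (actW ac [] a)) false true)) = true) : orderOf (W y w) = p := by
  rw [band_eq, Bool.and_eq_true] at h
  haveI := Fact.mk hp
  refine orderOf_eq_prime (M.ext fun b hb hb' => ?_) fun e => ?_
  · rw [(iter_apply (fun _ h => M.lt _ h) (fun _ h => M.applyW w h) p hb').1, nbeq.1 (allL_iff.1 h.1 b hb), map_one]; rfl
  · exact ne_of M h.2 e

end

namespace F7

noncomputable def Lc : Lv := ⟨292, 100, [[0],[7,1],[1,8],[8],[1],[3],[7],[2],[4],[0,7],[3,8],[2,4],[8,4],[7,7],[3,1],[8,1],[3,7],[7,4],[4,8],[1,0],[3,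
  0],[1,2],[0,4],[2,1],[3,2],[4,1],[3,4],[4,3],[2,7],[0,1],[7,1,8],[2,1,8],[0,1,8],[3,2,1],[1,3,0],[3,8,1],[2,0,
  1],[4,3,1],[1,3,4],[8,1,7],[3,1,2],[2,3,8],[7,4,1],[1,2,1],[8,0,1],[3,7,1],[3,1,8],[7,1,0]],
  fun x => force (Nat.mod x 292) (get2 7 (nat_lit 0x644c9040000000000000000000006e59b2094d64d14756a53229c80f06386829d8f15b000000000000009b76d590000000000000000000000000000870ac6100000004b5eb602a7da503d215b300000000000000000000000000000000000000000000000000000000000000018c408b611c52f000000000000000000000000000000000000000000829202a0000000000000000000000000000000000000000000000000000000000000005af9ebc76a4ba23a2441c9eb8dc600000000000000000000000000000000000000000000000000000000b97e65e000000000000000000000000000000000004d140000000d445949d21732d438321df982818280)),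
  get2 17 (nat_lit 0xd652eb1934849a223bc54de0b7532b78c1d611ea5bb524fa464d150e899acd456666b3172567918567d2f0a6feb377539f785b4a4c2334918a27c9014468505b771fba1dd260e925f1da18e54b72d2a6455298a9125464a556929b0941446e9a354119367d413e0512330531a28cb140b05269538c95c63e22e3815510c944520c36ef8345c38ea9b372aa0b12a3c8d2b3ed79f3a82bd015220a336e976dd956e1a54212365cfb8249cd24459215883a2415220861022480b829d514898a1642b36154eb7429261c9280480820631000c52884900), 0, 0⟩

theorem okLc : LvOk act 1782 [1773,1776] Lc := ⟨by decide +kernel, allLt_iff.1 (by decide +kernel)⟩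

noncomputable def Ld : Lv := ⟨598, 36, [[8,1,7],[2,1,8,3,4],[4,3,7,1,2],[8,4,3,7],[0,3,7,3],[3,8,3,0],[8,3,4,7],[0,3,2,3],[0,1,2,1,0],[1,3,8,1,2],[7,
  3,7,3,2,4],[1,4,8,1,7,4],[0,1,8,8,1,0],[7,1,3,4,3,2],[4,2,3,8,3,8],[4,8,1,7,4,1],[2,3,4,3,1,8],[1,0,7,1,8,0,
  1],[7,3,2,1,2,3,8],[2,1,7,1,2,3,0],[7,1,2,4,3,2,1],[7,1,7,1,8,1,8],[2,1,0,3,7,1,8],[7,1,8,3,0,1,2],[1,2,3,4,2,
  1,8]],
  fun x => force (Nat.mod x 146) (get2 6 (nat_lit 0x68000000000000000520000000d00000c01d0001808c008050001c01800000000000000040001b1000170000130014910000003c000000000024000000054b00a0c00000000000000000070000000000000000000000000000000000206400008a100000078001600e01f000000)),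
  get2 17 (nat_lit 0x20e08a3085105bb84b703a531118064003d4801230c5387ac92544aa5060faa840d10acb8534c292da9ccd2685ba391b1e8c8d3e859f22b45838e48bc44d990b1d0ca9473e221050c2a0a9580), 0, 0⟩

theorem okLd : LvOk act 1782 [292,1773,1776] Ld := ⟨by decide +kernel, allLt_iff.1 (by decide +kernel)⟩

noncomputable def Lp : Lv := ⟨162, 7, [[1,3,2,3,4,1,2,1,0],[0,1,2,1,4,3,2,3,1],[1,8,1,0,1,7,1],[3,7,3,1,8,3,1,7,1],[2,3,8,1,4,8,1,8,1]],
  fun x => force (Nat.mod x 16) (get2 3 (nat_lit 0x1080d5006)),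
  get2 17 (nat_lit 0x1000b52076e8446c090502cc842880), 0, 0⟩

theorem okLp : LvOk act 1782 [598,292,1773,1776] Lp := ⟨by decide +kernel, allLt_iff.1 (by decide +kernel)⟩

noncomputable def Lq : Lv := ⟨566, 6, [[8,2,1,0,1,2,7],[2,3,4,1,8,3,2,1,0,1],[8,1,7],[8,2,1,2,0,1,2,7],[1,8,1,3,7,7,1,3,7,1]],
  fun x => force (Nat.mod x 8) (get2 3 (nat_lit 0x2b08c)),
  get2 17 (nat_lit 0x82884001d481dba02cc848d80), 0, 0⟩

theorem okLq : LvOk act 1782 [162,598,292,1773,1776] Lq := ⟨by decide +kernel, allLt_iff.1 (by decide +kernel)⟩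

noncomputable def Lr : Lv := ⟨256, 4, [[1,3,8,1,3,8,3,1,8],[4,7,3,1,2,1,3,8,4],[8,1,7,2,3,4,1,8,3,2,1,0,1]],
  fun x => force (Nat.mod x 6) (get2 2 (nat_lit 0xc60)),
  get2 17 (nat_lit 0xb3216a40082824000), 0, 0⟩

theorem okLr : LvOk act 1782 [566,162,598,292,1773,1776] Lr := ⟨by decide +kernel, allLt_iff.1 (by decide +kernel)⟩

def F : List ℕ := [292,598,1773,1776]

noncomputable def Ss : List Sg := [⟨Lc, 2, 292, F, [], 0⟩,
  ⟨Ld, 2, 598, F, [], 0⟩,
  ⟨Lp, 2, 162, List.range 1782, [], 0⟩,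
  ⟨Lq, 1, 0, [0], [0], 1⟩,
  ⟨Lr, 0, 0, [0], [1,1], 2⟩,
  ⟨.triv 1466 0 0, 0, 0, [0], [2,2,2], 3⟩]

def ws : List (List ℕ) := [[9],[8,5,1,7,1,5,6,1,8,1,7,6],[5,1,7,1,5,6,1,8,1,6,5,1,7,1,3,5,8,1,7,1,3,4,7,3,2,3,7,0,8,5,1,7,1,5,6,1,8,1,7,
  6]]

def tb4 : List ℕ := [228,135,210]

theorem chn : Chn act 1782 [1773, 1776] (lvs Ss []) :=
  .cons okLc (.cons okLd (.cons okLp (.cons okLq (.cons okLr (.cons (.triv (by decide)) .nil)))))

variable {Γ : Type*} [Group Γ] {φ : Γ →* Perm ℕ} {y : ℕ → Γ} (M : Md φ y)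
include M

theorem cfix {g : Γ} (hg : g ∈ centralizer {W y [9]}) {p : ℕ} (hp : p ∈ F) : φ g p ∈ F := by
  have h1 : ∀ p ∈ F, band (Nat.blt p 1782) (Nat.beq (actW act [9] p) p) = true := allL_iff.1 (by decide +kernel)
  have h2 : p < 1782 := by have := h1 p hp; rw [band_eq, Bool.and_eq_true, nblt] at this; exact this.1
  refine fix_mem M (w := [9]) (by decide +kernel) (M.lt g h2) ?_
  rw [← Perm.mul_apply, ← map_mul, ← mem_centralizer_singleton_iff.1 hg, map_mul, Perm.mul_apply, fix_of M (h1 p hp)]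

theorem up : Nat.card (centralizer {W y [9]}) ≤ 84 := by
  haveI := M.finite
  refine card_step (φ := φ) (m := 21) _ 1776 F (fun g hg => cfix M hg (by decide)) ?_
  refine card_step (φ := φ) (m := 7) _ 1773 (F.erase 1776)
    (fun g hg => mem_tail hg.2 (by decide) (cfix M hg.1 (by decide))) ?_
  refine bt_le M (ew := [[9]]) (fuel := 4) chn (fx2 M) (fun g hg => List.forall_mem_cons.2 ⟨hg.2 _ List.mem_cons_self,
    hg.1.2⟩) ?_ (by decide +kernel)
  simp only [Ss, List.forall_mem_cons, List.not_mem_nil, IsEmpty.forall_iff, implies_true, and_true]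
  exact ⟨fun g hg => Mean.pt (cfix M hg.1.1 (by decide)), fun g hg => Mean.pt (cfix M hg.1.1 (by decide)),
    fun g _ => Mean.pt (List.mem_range.2 (M.lt g (by decide))), fun g hg => Mean.cj ⟨0, List.mem_cons_self,
      mul_inv_eq_iff_eq_mul.2 (mem_centralizer_singleton_iff.1 hg.1.1)⟩, fun g _ => Mean.zero g 0,
    fun g _ => Mean.zero g 0⟩

theorem ord : orderOf (W y [9]) = 7 := ord_of M (a := 0) (by norm_num) (by decide +kernel)

theorem cent : Nat.card (centralizer {W y [9]}) = 84 ∧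
    Nonempty (centralizer {W y [9]} ≃* Multiplicative (ZMod 7) × alternatingGroup (Fin 4)) := by
  letI := actOf φ
  haveI := M.finite
  have hK : CodesIn (fun i g => g = W y (nthL [] ws i)) [0, 1, 2] (centralizer {W y [9]}) := fun c hc =>
    ⟨_, mem_centralizer_singleton_iff.2 (by
      rw [← W_append, ← W_append]; exact M.eq (allL_iff.1 (show allL [0, 1, 2] (fun c => eqB act _
        (nthL [] ws c ++ [9]) ([9] ++ nthL [] ws c)) = true by decide +kernel) c hc)), rfl⟩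
  have hR : ∀ ⦃c : ℕ⦄ ⦃g g' : Γ⦄, g = W y (nthL [] ws c) → g' = W y (nthL [] ws c) → g = g' :=
    fun _ _ _ h h' => h.trans h'.symm
  obtain ⟨K, hcl⟩ : ∃ K, closure (genSet (fun i g => g = W y (nthL [] ws i)) [0, 1, 2]) = K := ⟨_, rfl⟩
  have hle : K ≤ _ := hcl ▸ hK.closure_le hR
  obtain ⟨ψ, h1, h2⟩ := exists_surj_alt (n := 2) (w := 2) (m := 3) (keyedW M ws) hR (hcl ▸ hK.closure) hcl tb4 [[1], [2]] [1, 0]
    ⟨by decide, rfl⟩ (vs := nthL 0 F) (fun i hi => ⟨_, rfl, by revert i; decide⟩)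
    (show ∀ i < 4, ∀ j < 4, nthL 0 F i = nthL 0 F j → i = j by decide) (k := 3) (by decide)
    (by rw [tabsOK_keyedW]; decide +kernel)
  have hx : W y [9] ∈ K := hcl ▸ subset_closure ⟨0, List.mem_cons_self, rfl⟩
  have hx' : (⟨_, hx⟩ : K) ∈ ψ.ker := (h2 ⟨_, hx⟩).2 fun i hi x e => by
    obtain ⟨rfl, -⟩ := e
    exact fix_of M (allLt_iff.1 (show allLt 4 (fun i => band (Nat.blt (nthL 0 F i) 1782)
      (Nat.beq (actW act [9] (nthL 0 F i)) (nthL 0 F i))) = true by decide +kernel) i hi)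
  have c1 : Nat.card (zpowers (⟨_, hx⟩ : K)) = 7 := by rw [Nat.card_zpowers, ← orderOf_coe, ord M]
  have c2 := card_mul_card_ker h1
  rw [nat_card_alternatingGroup, Nat.card_fin] at c2
  have c3 := card_le_of_le (zpowers_le.2 hx')
  have c4 := card_le_of_le hle
  have c5 := up M
  have c6 : Nat.factorial (2 + 2) / 2 = 12 := rfl
  rw [c6] at c2
  have e : K = centralizer {W y [9]} := eq_of_le_of_card_ge hle (by omega)
  have e' : zpowers (⟨_, hx⟩ : K) = ψ.ker := eq_of_le_of_card_ge (zpowers_le.2 hx') (by omega)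
  obtain ⟨f⟩ := equiv_prod_of_central ψ h1 (e' ▸ zpowers_le.2 (mem_center_iff.2 fun g =>
    Subtype.ext (mem_centralizer_singleton_iff.1 (hle g.2)))) (by
      rw [← e', c1, nat_card_alternatingGroup, Nat.card_fin, c6]; norm_num)
  haveI : Fact (Nat.Prime 7) := ⟨by norm_num⟩
  exact ⟨by omega, ⟨(MulEquiv.subgroupCongr e.symm).trans (f.trans ((mulEquivOfPrimeCardEq (p := 7) (by rw [← e', c1])
    (by simp)).prodCongr (MulEquiv.refl _)))⟩⟩

theorem main {B : Subgroup Γ} (hB : B = zpowers (y 9)) :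
    Nonempty (centralizer (B : Set Γ) ≃* Multiplicative (ZMod 7) × alternatingGroup (Fin 4)) ∧
      Nat.card (normalizer (B : Set Γ)) = 504 := by
  haveI := M.finite
  have e : y 9 = W y [9] := by simp
  rw [hB, e]
  refine ⟨centralizer_zpowers (W y [9]) ▸ (cent M).2, ?_⟩
  exact card_normalizer_zpowers (c := 84) (d := 6) (by norm_num) (ord M) M.card (by norm_num)
    (centralizer_zpowers (W y [9]) ▸ (cent M).1) (by norm_num)

end F7

theorem syl7 {G : Type*} [Group G] (h : Spor.IsoSuz G) (B : Sylow 7 G) :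
    Nonempty (centralizer ((B : Subgroup G) : Set G) ≃* Multiplicative (ZMod 7) × alternatingGroup (Fin 4)) ∧
      Nat.card (normalizer ((B : Subgroup G) : Set G)) = 504 := by
  obtain ⟨φ, y, M⟩ := exists_md h
  haveI := M.finite
  haveI : Fact (Nat.Prime 7) := ⟨by norm_num⟩
  have e : y 9 = W y [9] := by simp
  obtain ⟨g, hg⟩ := exists_conj_sylow (P := zpowers (y 9)) (k := 1) (by rw [Nat.card_zpowers, e, F7.ord M]; rfl) M.card
    (by norm_num) B
  obtain ⟨φ', M'⟩ := M.cj g⁻¹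
  exact F7.main M' (by rw [← hg, map_conj_zp, inv_inv])

end Cfsg.Agent.SuzR
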