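import Cfsg.Agent.Geom.Family
import Cfsg.Agent.Geom.OBridge
import Cfsg.Agent.Geom.Classify
import Cfsg.Agent.Chev.CoxE6
import Cfsg.Agent.Chev.PoinE6
import Cfsg.Agent.Co1T.Cox

/-! The quadratic space `W = O⁻(6,2)` by bit codes (`cv`, `qN`, `bN`), small geometric facts, the `E₆` reflections `sg`
and `cox_split`: a central extension of `Ω⁻(6,2)` by an involution splits when the products of two commuting
reflections lift to involutions (helper24, after `Co1T.A0`, `Co1T.Cox`). -/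

set_option autoImplicit false
set_option maxRecDepth 100000
set_option synthInstance.maxSize 4096

namespace Cfsg.Agent.SuzA

open Cfsg.Agent.Geom Cfsg.Agent.Geom.Formed QuadraticMap Subgroup Module

abbrev W : Type := (Fin 2 ⊕ Fin 2) ⊕ Fin 2 → ZMod 2
noncomputable abbrev S : QuadraticForm (ZMod 2) W := quadMinus (ZMod 2) 2 1 1
abbrev O6 : Type := OG S
noncomputable abbrev Om : Subgroup O6 := commutator O6
noncomputable abbrev B (a b : W) : ZMod 2 := polar S a b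

theorem z2 (x : ZMod 2) : x = 0 ∨ x = 1 := by revert x; decide
theorem z2_ne {x : ZMod 2} (h : x ≠ 0) : x = 1 := (z2 x).resolve_left h
theorem z2_add (x : ZMod 2) : x + x = 0 := by revert x; decide
theorem W_add (v : W) : v + v = 0 := funext fun i => z2_add (v i)
theorem W_neg (v : W) : -v = v := neg_eq_of_add_eq_zero_left (W_add v)
theorem W_sub (v w : W) : v - w = v + w := by rw [sub_eq_add_neg, W_neg]
theorem anis : ∀ z₁ z₂ : ZMod 2, z₁ ^ 2 + 1 * z₁ * z₂ + 1 * z₂ ^ 2 = 0 → z₁ = 0 ∧ z₂ = 0 := by decide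
theorem nd : (ofQuad S).Nondeg := quadMinus_nondeg (ZMod 2) 2 (disc_ne_zero_of_anisotropic anis)
theorem rk : finrank (ZMod 2) W = 6 := by simp
theorem nex : NotExc S := notExc_of_finrank (by rw [rk]; decide)
theorem B_comm (a b : W) : B a b = B b a := polar_comm _ _ _
theorem B_add (a b c : W) : B a (b + c) = B a b + B a c := polar_add_right _ _ _ _
theorem B_add' (a b c : W) : B (a + b) c = B a c + B b c := polar_add_left _ _ _ _
theorem B_self (a : W) : B a a = 0 := by rw [B, polar_self', two_mul, z2_add]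
theorem S_add (a b : W) : S (a + b) = S a + S b + B a b := quad_add _ _ _

theorem card_O6 : Nat.card O6 = 51840 := by
  rw [card_isom_minus 2 nd (quadMinus_wittIndex _ _ anis) rk, Nat.card_zmod]; decide
instance finO6 : Finite O6 := Nat.finite_of_card_ne_zero (by rw [card_O6]; decide)
theorem index_Om : Om.index = 2 := index_commutator_even nd nex rfl (by rw [rk]; decide)
theorem card_Om : Nat.card Om = 25920 := by
  have := Om.card_mul_index
  rw [index_Om, card_O6] at this; omega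
theorem mem_Om {g : O6} : g ∈ Om ↔ dick g = 1 := mem_commutator_iff_of_two nd nex rfl g
theorem refl_notMem {v : W} (h : S v = 1) : refl S v ∉ Om := by
  rw [mem_Om, dick_refl nd (by rw [h]; decide)]; decide
theorem refl_mul_mem {u v : W} (hu : S u = 1) (hv : S v = 1) : refl S u * refl S v ∈ Om := by
  rw [mem_Om, dick_refl_mul nd (by rw [hu]; decide), dick_refl nd (by rw [hv]; decide)]; decide
theorem mem_or {v : W} (h : S v = 1) (g : O6) : g ∈ Om ∨ refl S v * g ∈ Om := by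
  rw [mem_Om, mem_Om, dick_refl_mul nd (by rw [h]; decide)]
  rcases Int.units_eq_one_or (dick g) with e | e <;> simp [e]
theorem refl_ap {v : W} (h : S v = 1) (x : W) : (refl S v).1 x = x + B v x • v := by
  rw [refl_apply, h, inv_one, one_mul, W_sub]

def cv (n : ℕ) : W := fun i => if n.testBit (Sum.elim (Sum.elim (fun j : Fin 2 => j.val) (fun j => j.val + 2)) (fun j => j.val + 4) i) then 1 else 0
def qN (n : ℕ) : ℕ := Nat.land (Nat.shiftRight 0x935f935f935f6ca0 n) 1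
def bN (a b : ℕ) : ℕ := Nat.xor (Nat.xor (qN (Nat.xor a b)) (qN a)) (qN b)
def rf (v x : ℕ) : ℕ := Nat.xor x (Nat.mul (bN v x) v)

theorem cv_xor (a b : ℕ) : cv (a ^^^ b) = cv a + cv b := funext fun i => by
  simp only [cv, Nat.testBit_xor, Pi.add_apply]
  generalize a.testBit _ = x; generalize b.testBit _ = y; revert x y; decide
theorem cv_zero : cv 0 = 0 := funext fun i => by simp [cv]
theorem cv_inj {a b : ℕ} (ha : a < 64) (hb : b < 64) (h : cv a = cv b) : a = b := by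
  have : ∀ n < 64, cv n = 0 → n = 0 := by decide +kernel
  exact Nat.eq_of_xor_eq_zero (this _ (Nat.xor_lt_two_pow (n := 6) ha hb) (by rw [cv_xor, h, W_add]))
theorem cv_surj (v : W) : ∃ n < 64, cv n = v := by
  have : Function.Bijective fun n : Fin 64 => cv n := (Fintype.bijective_iff_injective_and_card _).2
    ⟨fun a b h => Fin.ext (cv_inj a.2 b.2 h), by simp⟩
  obtain ⟨n, h⟩ := this.2 v
  exact ⟨n, n.2, h⟩
theorem S_cv {n : ℕ} (h : n < 64) : S (cv n) = qN n := by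
  rw [quadMinus_apply, Fin.sum_univ_two]; revert n; decide +kernel
theorem qN_lt (n : ℕ) : qN n < 2 := Nat.and_lt_two_pow _ (n := 1) (by decide)
theorem bN_lt (a b : ℕ) : bN a b < 2 :=
  Nat.xor_lt_two_pow (n := 1) (Nat.xor_lt_two_pow (n := 1) (qN_lt _) (qN_lt _)) (qN_lt _)
theorem B_cv {a b : ℕ} (ha : a < 64) (hb : b < 64) : B (cv a) (cv b) = bN a b := by
  have : ∀ x < 2, ∀ y < 2, ∀ z < 2, ((x : ℕ) : ZMod 2) - (y : ℕ) - (z : ℕ) = (Nat.xor (Nat.xor x y) z : ℕ) := by decide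
  show S (cv a + cv b) - S (cv a) - S (cv b) = _
  rw [← cv_xor, S_cv ha, S_cv hb, S_cv (Nat.xor_lt_two_pow (n := 6) ha hb)]
  exact this _ (qN_lt _) _ (qN_lt _) _ (qN_lt _)
theorem cast0 {x : ℕ} (h : x < 2) : (x : ZMod 2) = 0 ↔ x = 0 := by revert x; decide
theorem cast1 {x : ℕ} (h : x < 2) : (x : ZMod 2) = 1 ↔ x = 1 := by revert x; decide
theorem S0 {n : ℕ} (h : n < 64) : S (cv n) = 0 ↔ qN n = 0 := by rw [S_cv h, cast0 (qN_lt _)]
theorem S1 {n : ℕ} (h : n < 64) : S (cv n) = 1 ↔ qN n = 1 := by rw [S_cv h, cast1 (qN_lt _)]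
theorem B0 {a b : ℕ} (ha : a < 64) (hb : b < 64) : B (cv a) (cv b) = 0 ↔ bN a b = 0 := by
  rw [B_cv ha hb, cast0 (bN_lt _ _)]
theorem B1 {a b : ℕ} (ha : a < 64) (hb : b < 64) : B (cv a) (cv b) = 1 ↔ bN a b = 1 := by
  rw [B_cv ha hb, cast1 (bN_lt _ _)]
theorem cv_smul {x : ℕ} (h : x < 2) (v : ℕ) : cv (Nat.mul x v) = (x : ZMod 2) • cv v := by
  obtain rfl | rfl : x = 0 ∨ x = 1 := by omega
  · simp [cv_zero]
  · simp
theorem rf_lt {v x : ℕ} (hv : v < 64) (hx : x < 64) : rf v x < 64 :=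
  Nat.xor_lt_two_pow (n := 6) hx (by have := bN_lt v x; show bN v x * v < _; nlinarith)
theorem refl_cv {v x : ℕ} (hv : v < 64) (h : qN v = 1) (hx : x < 64) : (refl S (cv v)).1 (cv x) = cv (rf v x) := by
  rw [refl_ap ((S1 hv).2 h), B_cv hv hx, ← cv_smul (bN_lt _ _), ← cv_xor]; rfl

abbrev e1 : W := cv 1
theorem Se1 : S e1 = 0 := (S0 (by decide)).2 rfl
theorem e1_ne : e1 ≠ 0 := fun h => absurd (cv_inj (by decide) (by decide) (h.trans cv_zero.symm)) (by decide)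

theorem eich_ap {p a : W} (hp : S p = 0) (ha : B p a = 0) (x : W) :
    (eich S p a).1 x = x + (B a x + S a * B p x) • p + B p x • a := by
  rw [eich_apply hp ha, W_sub, CharTwo.sub_eq_add]

theorem G1 {v : W} (h : S v = 0) (h1 : B e1 v = 0) (h2 : v ≠ 0) (h3 : v ≠ e1) :
    ∃ g ∈ Om, g.1 e1 = e1 ∧ B v (g.1 v) = 1 := by
  obtain ⟨n, hn, rfl⟩ := cv_surj v
  have : ∀ n < 64, qN n = 0 → bN 1 n = 0 → n ≠ 0 → n ≠ 1 → ∃ c < 64, (qN c = 0 ∧ bN c 1 = 0 ∧ bN c n = 1) ∧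
    ∃ a < 64, qN a = 1 ∧ bN c a = 0 ∧ bN a 1 = 0 ∧ bN a n = 0 := by decide +kernel
  obtain ⟨c, hc, ⟨c1, c2, c3⟩, a, ha, a1, a2, a3, a4⟩ := this n hn ((S0 hn).1 h) ((B0 (by decide) hn).1 h1)
    (by rintro rfl; exact h2 cv_zero) (by rintro rfl; exact h3 rfl)
  rw [← S0 hc] at c1; rw [← S1 ha] at a1; rw [← B1 hc hn] at c3
  rw [← B0 (by assumption) (by first | assumption | decide)] at c2 a2 a3 a4
  refine ⟨eich S (cv c) (cv a), eich_mem_commutator nd nex _ _, by rw [eich_ap c1 a2, a3, c2]; simp, ?_⟩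
  rw [eich_ap c1 a2, a4, a1, c3, B_add, B_add, B_self]
  simp [B_comm (cv n), c3, a4]

theorem G4 {b c : W} (h1 : B e1 b = 0) (h2 : S b = 1) (h3 : S c = 1) (h4 : B e1 c = 0) (h5 : B b c = 0) :
    ∃ d, (S d = 1 ∧ B e1 d = 0 ∧ B b d = 0) ∧ ∃ x, B e1 x = 0 ∧ B d x = 0 ∧ B c x = 1 := by
  obtain ⟨n, hn, rfl⟩ := cv_surj b
  obtain ⟨m, hm, rfl⟩ := cv_surj c
  have : ∀ n < 64, bN 1 n = 0 → qN n = 1 → ∀ m < 64, qN m = 1 → bN 1 m = 0 → bN n m = 0 → ∃ d < 64,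
    (qN d = 1 ∧ bN 1 d = 0 ∧ bN n d = 0) ∧ ∃ x < 64, bN 1 x = 0 ∧ bN d x = 0 ∧ bN m x = 1 := by decide +kernel
  obtain ⟨d, hd, ⟨a, b, c⟩, x, hx, e, f, g⟩ := this n hn ((B0 (by decide) hn).1 h1) ((S1 hn).1 h2) m hm ((S1 hm).1 h3)
    ((B0 (by decide) hm).1 h4) ((B0 hn hm).1 h5)
  exact ⟨cv d, ⟨(S1 hd).2 a, (B0 (by decide) hd).2 b, (B0 hn hd).2 c⟩, cv x, (B0 (by decide) hx).2 e, (B0 hd hx).2 f,
    (B1 hm hx).2 g⟩

theorem G5 {b : W} (h1 : B e1 b = 0) : (∃ c, S c = 1 ∧ B e1 c = 0 ∧ B b c = 0) ∧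
    (S b = 1 → ∃ x, B e1 x = 0 ∧ B b x = 1) ∧ ∃ k < 16, eich S e1 b = eich S e1 (cv (2 * (k % 2) + 8 * (k / 2))) := by
  obtain ⟨n, hn, rfl⟩ := cv_surj b
  have : ∀ n < 64, bN 1 n = 0 → (∃ c < 64, qN c = 1 ∧ bN 1 c = 0 ∧ bN n c = 0) ∧ (qN n = 1 → ∃ x < 64, bN 1 x = 0 ∧
    bN n x = 1) ∧ ∃ k < 16, n = 2 * (k % 2) + 8 * (k / 2) ∨ n ^^^ 1 = 2 * (k % 2) + 8 * (k / 2) := by decide +kernel
  obtain ⟨⟨c, hc, a, b, d⟩, e, k, hk, f⟩ := this n hn ((B0 (by decide) hn).1 h1)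
  refine ⟨⟨cv c, (S1 hc).2 a, (B0 (by decide) hc).2 b, (B0 hn hc).2 d⟩, fun h => ?_, k, hk, ?_⟩
  · obtain ⟨x, hx, u, v⟩ := e ((S1 hn).1 h)
    exact ⟨cv x, (B0 (by decide) hx).2 u, (B1 hn hx).2 v⟩
  · rcases f with f | f <;> rw [← f]
    rw [cv_xor, ← eich_add_smul Se1 h1 1, one_smul]

theorem G2 {g : O6} {p : W} (hp : S p = 0) (p0 : p ≠ 0) (h1 : g.1 p = p)
    (h : ∀ x, B p x = 0 → g.1 x = x ∨ g.1 x = x + p) : ∃ a, B p a = 0 ∧ g = eich S p a := by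
  obtain ⟨w, hw⟩ := nd.exists_eq_one p0
  change B p w = 1 at hw
  have gw : B p (g.1 w) = 1 := by have := OG.map_polar g p w; rw [h1] at this; exact this.trans hw
  have ha : B p (w + g.1 w) = 0 := by rw [B_add, hw, gw]; rfl
  have k : ∀ x, B p x = 0 → g.1 x = (eich S p (w + g.1 w)).1 x := fun x hx => by
    have := OG.map_polar g w x
    rw [eich_ap hp ha, hx, B_add', mul_zero, add_zero, zero_smul, add_zero]
    rcases h x hx with e | e <;> rw [e] at this ⊢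
    · rw [show B (g.1 w) x = B w x from this, z2_add, zero_smul, add_zero]
    · rw [polar_add_right, show polar S (g.1 w) p = 1 from (B_comm _ _).trans gw] at this
      rw [← show B (g.1 w) x + 1 = B w x from this, add_comm _ (1 : ZMod 2), add_assoc, z2_add, add_zero, one_smul]
  have kw : g.1 w = (eich S p (w + g.1 w)).1 w := by
    rw [eich_ap hp ha, hw, S_add, OG.map_Q, z2_add, B_add', B_self, B_comm w]
    simp [z2_add, ← add_assoc, W_add]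
  refine ⟨_, ha, OG.ext fun x => ?_⟩
  rcases z2 (B p x) with e | e
  · exact k x e
  · have := k (x + w) (by rw [B_add, e, hw]; rfl)
    rw [map_add, map_add, ← kw] at this
    exact add_right_cancel this

theorem exists_move {p : W} (hp : S p = 0) (p0 : p ≠ 0) : ∃ g ∈ Om, g.1 p = e1 := by
  obtain ⟨g, hg, e⟩ := nd.witt_vec p0 e1_ne ((B_self _).trans (B_self p).symm) (Se1.trans hp.symm)
  have h17 : S (cv 16) = 1 := (S1 (by decide)).2 rfl
  rcases mem_or h17 ⟨g, hg⟩ with h | h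
  · exact ⟨_, h, e⟩
  · exact ⟨_, h, by rw [OG.mul_apply, e, refl_of_perp ((B0 (by decide) (by decide)).2 rfl)]⟩

def aN (i : Fin 6) : ℕ := ![5, 7, 11, 24, 32, 16] i
noncomputable def sg (i : Fin 6) : O6 := refl S (cv (aN i))
def wN (l : List (Fin 6)) (x : ℕ) : ℕ := l.foldr (fun i y => rf (aN i) y) x
theorem aN_ok (i : Fin 6) : aN i < 64 ∧ qN (aN i) = 1 := by revert i; decide
theorem S_aN (i : Fin 6) : S (cv (aN i)) = 1 := (S1 (aN_ok i).1).2 (aN_ok i).2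
theorem sg_sq (i : Fin 6) : sg i * sg i = 1 := refl_mul_self _ _
theorem wN_ok (l : List (Fin 6)) {x : ℕ} (hx : x < 64) : wN l x < 64 ∧ (l.map sg).prod.1 (cv x) = cv (wN l x) := by
  induction l with
  | nil => exact ⟨hx, rfl⟩
  | cons i l ih => exact ⟨rf_lt (aN_ok i).1 ih.1, by
      rw [List.map_cons, List.prod_cons, OG.mul_apply, ih.2, sg, refl_cv (aN_ok i).1 (aN_ok i).2 ih.1]; rfl⟩
theorem O6_ext {g k : O6} (h : ∀ i < 6, g.1 (cv (2 ^ i)) = k.1 (cv (2 ^ i))) : g = k := by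
  refine Subtype.ext (LinearEquiv.toLinearMap_injective ((Pi.basisFun (ZMod 2) _).ext fun i => ?_))
  have : ∀ i, ∃ j < 6, Pi.single i 1 = cv (2 ^ j) := by decide +kernel
  obtain ⟨j, hj, e⟩ := this i
  rw [Pi.basisFun_apply, e]; exact h j hj
theorem pow_lt6 {i : ℕ} (h : i < 6) : 2 ^ i < 64 := Nat.pow_lt_pow_right (by decide) h

def WL : List (List (Fin 6)) := [[], [2], [0, 2], [3, 2], [3, 0, 2], [1, 3, 2], [4, 3, 2], [1, 3, 0, 2], [2, 3, 0, 2], [4, 3, 0, 2],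
  [4, 1, 3, 2], [5, 4, 3, 2], [2, 1, 3, 0, 2], [4, 1, 3, 0, 2], [4, 2, 3, 0, 2], [5, 4, 3, 0, 2], [3, 4, 1, 3, 2], [5, 4, 1, 3, 2],
  [3, 2, 1, 3, 0, 2], [4, 2, 1, 3, 0, 2], [3, 4, 1, 3, 0, 2], [5, 4, 1, 3, 0, 2], [3, 4, 2, 3, 0, 2], [5, 4, 2, 3, 0, 2],
  [2, 3, 4, 1, 3, 2], [5, 3, 4, 1, 3, 2], [5, 4, 2, 1, 3, 0, 2], [5, 3, 4, 1, 3, 0, 2], [5, 3, 4, 2, 3, 0, 2], [5, 2, 3, 4, 1, 3, 2],
  [4, 5, 3, 4, 1, 3, 2], [4, 5, 3, 4, 1, 3, 0, 2], [4, 5, 3, 4, 2, 3, 0, 2], [4, 5, 2, 3, 4, 1, 3, 2], [3, 4, 5, 2, 3, 4, 1, 3, 2],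
  [1, 3, 4, 5, 2, 3, 4, 1, 3, 2]]

theorem sg_gen {N : Subgroup O6} (h : ∀ i, sg i ∈ N) : N = ⊤ := eq_top_of_refl nd nex fun v hv => by
  obtain ⟨n, hn, rfl⟩ := cv_surj v
  have : ∀ n < 64, qN n = 1 → ∃ w ∈ WL, wN w 5 = n := by decide +kernel
  obtain ⟨w, -, e⟩ := this n hn ((S1 hn).1 (z2_ne hv))
  have m : (w.map sg).prod ∈ N := N.list_prod_mem fun x hx => by
    obtain ⟨i, -, rfl⟩ := List.mem_map.1 hx; exact h i
  rw [← e, ← (wN_ok w (by decide)).2, ← conj_refl]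
  exact N.mul_mem (N.mul_mem m (h 0)) (N.inv_mem m)

theorem sg_rel (i j : Fin 6) : (sg i * sg j) ^ CoxeterMatrix.E₆ i j = 1 := by
  have : ∀ n, (sg i * sg j) ^ n = ((List.replicate n [i, j]).flatten.map sg).prod := fun n => by
    induction n with
    | zero => rfl
    | succ n ih => rw [pow_succ', ih]; simp [List.replicate_succ, mul_assoc]
  rw [this]
  refine O6_ext fun k hk => ((wN_ok _ (pow_lt6 hk)).2).trans (congrArg cv ?_)
  clear this; revert i j k; decide +kernel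

open CoxeterMatrix
open Co1A (tP tP_f tP_t tP_pow)

theorem card_E6 : Nat.card E₆.Group = 51840 := by
  obtain ⟨e, -⟩ := Chev.coxE6
  rw [← Nat.card_congr e.toEquiv, Chev.card_WGE6]

variable {E : Type*} [Group E]

def ed6 : List (Fin 6 × Fin 6) :=
  [(0, 2), (2, 0), (2, 3), (3, 2), (3, 1), (1, 3), (3, 4), (4, 3), (4, 5), (5, 4)]

theorem exists_lifts (π : E →* O6) {ζ : E} (hζ : ∀ x, Commute x ζ) (ζ2 : ζ * ζ = 1)
    (hk : ∀ x, π x = 1 → x = 1 ∨ x = ζ) (hr : π.range = Om)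
    (h2 : ∀ a b : W, S a = 1 → S b = 1 → B a b = 0 → a ≠ b → ∀ y, π y = refl S a * refl S b → y * y = 1) :
    ∃ Y : Fin 6 → E, (∀ i, π (Y i) = sg 0 * sg i) ∧ ∀ i j, ((Y i)⁻¹ * Y j) ^ E₆ i j = 1 := by
  have pi : ∀ {i j x y}, π x = sg 0 * sg i → π y = sg 0 * sg j → π (x⁻¹ * y) = sg i * sg j := fun hx hy => by
    rw [map_mul, map_inv, hx, hy, mul_inv_rev, mul_assoc, inv_mul_cancel_left, sg, refl_inv]
  have st : ∀ i j, E₆ i j = 3 → ∀ y, π y = sg 0 * sg i → ∃ y', π y' = sg 0 * sg j ∧ (y⁻¹ * y') ^ 3 = 1 ∧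
      (y'⁻¹ * y) ^ 3 = 1 := fun i j h y hy => by
    suffices ∃ y', π y' = sg 0 * sg j ∧ (y⁻¹ * y') ^ 3 = 1 from this.imp fun y' h => ⟨h.1, h.2, by
      rw [← inv_eq_one, ← inv_pow, mul_inv_rev, inv_inv, h.2]⟩
    obtain ⟨y', hy'⟩ : sg 0 * sg j ∈ π.range := hr ▸ refl_mul_mem (S_aN 0) (S_aN j)
    have h3 : π ((y⁻¹ * y') ^ 3) = 1 := by rw [map_pow, pi hy hy', ← h, sg_rel]
    rcases hk _ h3 with e | e
    · exact ⟨y', hy', e⟩
    · refine ⟨y' * ζ, by rw [map_mul, ← e, h3, mul_one, hy'], ?_⟩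
      rw [← mul_assoc, (hζ _).mul_pow, e, pow_succ, pow_two, ζ2, one_mul, ζ2]
  have h0 : π 1 = sg 0 * sg 0 := by rw [sg_sq, map_one]
  obtain ⟨y2, a2, b2, c2⟩ := st 0 2 rfl _ h0
  obtain ⟨y3, a3, b3, c3⟩ := st 2 3 rfl _ a2
  obtain ⟨y1, a1, b1, c1⟩ := st 3 1 rfl _ a3
  obtain ⟨y4, a4, b4, c4⟩ := st 3 4 rfl _ a3
  obtain ⟨y5, a5, b5, c5⟩ := st 4 5 rfl _ a4
  let Y : Fin 6 → E := ![1, y1, y2, y3, y4, y5]
  have hY : ∀ i, π (Y i) = sg 0 * sg i := fun i => by fin_cases i <;> assumption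
  refine ⟨Y, hY, fun i j => ?_⟩
  have : ∀ i j : Fin 6, i = j ∨ (E₆.M i j = 2 ∧ bN (aN i) (aN j) = 0 ∧ aN i ≠ aN j) ∨ (E₆.M i j = 3 ∧ (i, j) ∈ ed6) := by
    intro i j; fin_cases i <;> fin_cases j <;> decide +kernel
  rcases this i j with rfl | ⟨e, f, g⟩ | ⟨e, f⟩
  · rw [inv_mul_cancel, one_pow]
  · rw [e, pow_two]
    exact h2 _ _ (S_aN i) (S_aN j) ((B0 (aN_ok i).1 (aN_ok j).1).2 f) (fun h => g (cv_inj (aN_ok i).1 (aN_ok j).1 h)) _
      (pi (hY i) (hY j))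
  · rw [e]
    simp only [ed6, List.mem_cons, Prod.mk.injEq, List.not_mem_nil, or_false] at f
    rcases f with f | f | f | f | f | f | f | f | f | f <;> obtain ⟨rfl, rfl⟩ := f <;> assumption

theorem cox_split [Finite E] (π : E →* O6) {ζ : E} (hζ : ∀ x, Commute x ζ) (ζ2 : ζ * ζ = 1)
    (hk : ∀ x, π x = 1 → x = 1 ∨ x = ζ) (hr : π.range = Om)
    (h2 : ∀ a b : W, S a = 1 → S b = 1 → B a b = 0 → a ≠ b → ∀ y, π y = refl S a * refl S b → y * y = 1) :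
    ∃ K : Subgroup E, (∀ k ∈ K, π k = 1 → k = 1) ∧ ∀ g ∈ Om, ∃ k ∈ K, π k = g := by
  obtain ⟨Y, hY, rel⟩ := exists_lifts π hζ ζ2 hk hr h2
  have l1 : E₆.IsLiftable fun i => tP (Y i) := fun i j => Equiv.ext fun ⟨e, b⟩ => by
    cases b
    · rw [(tP_pow _ _ _ _).1, rel, one_mul]; rfl
    · rw [(tP_pow _ _ _ _).2, show Y i * (Y j)⁻¹ = Y i * ((Y j)⁻¹ * Y i) * (Y i)⁻¹ by group, conj_pow, E₆.symmetric, rel]
      simp
  let Λ := E₆.toCoxeterSystem.lift ⟨_, l1⟩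
  let ρ := E₆.toCoxeterSystem.lift ⟨sg, sg_rel⟩
  have hΛ : ∀ i, Λ (E₆.simple i) = tP (Y i) := E₆.toCoxeterSystem.lift_apply_simple l1
  have hρ : ∀ i, ρ (E₆.simple i) = sg i := E₆.toCoxeterSystem.lift_apply_simple sg_rel
  have inv : ∀ w, ∃ a, ((∀ e, Λ w (e, false) = (a * e, false)) ∧ π a = ρ w) ∨
      ((∀ e, Λ w (e, false) = (a * e, true)) ∧ π a = sg 0 * ρ w) := fun w => by
    induction w using E₆.toCoxeterSystem.simple_induction_left with
    | one => exact ⟨1, .inl ⟨by simp, by simp⟩⟩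
    | mul_simple_left w i ih => ?_
    obtain ⟨a, ⟨h, h'⟩ | ⟨h, h'⟩⟩ := ih <;> rw [toCoxeterSystem_simple, map_mul, map_mul, hΛ, hρ]
    · exact ⟨Y i * a, .inr ⟨fun e => by simp [h, tP_f, tP_t, mul_assoc], by rw [map_mul, hY, h', mul_assoc]⟩⟩
    · refine ⟨(Y i)⁻¹ * a, .inl ⟨fun e => by simp [h, tP_f, tP_t, mul_assoc], ?_⟩⟩
      rw [map_mul, map_inv, hY, h', mul_inv_rev, mul_assoc, inv_mul_cancel_left, sg, refl_inv]
  have fin : Finite E₆.Group := Nat.finite_of_card_ne_zero (by rw [card_E6]; decide)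
  have ev : ∀ w, (Λ w (1, false)).2 = false → (∀ e, Λ w (e, false) = ((Λ w (1, false)).1 * e, false)) ∧
      π (Λ w (1, false)).1 = ρ w := fun w hw => by
    obtain ⟨a, ⟨h, h'⟩ | ⟨h, h'⟩⟩ := inv w
    · rw [h 1, mul_one]; exact ⟨h, h'⟩
    · rw [h] at hw; cases hw
  let P : Subgroup E₆.Group :=
    { carrier := {w | (Λ w (1, false)).2 = false}
      one_mem' := by simp
      mul_mem' := fun {a b} ha hb => by
        show (Λ (a * b) (1, false)).2 = false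
        rw [map_mul, Equiv.Perm.mul_apply, (ev b hb).1, (ev a ha).1]
      inv_mem' := fun {a} ha => by
        have := (ev a ha).1 (Λ a (1, false)).1⁻¹
        rw [mul_inv_cancel, ← Equiv.Perm.eq_inv_iff_eq, ← map_inv] at this
        show (Λ a⁻¹ (1, false)).2 = false
        rw [← this] }
  let lam : P →* E := MonoidHom.mk' (fun w => (Λ w.1 (1, false)).1) fun a b => by
    rw [coe_mul, map_mul, Equiv.Perm.mul_apply, (ev b b.2).1, (ev a a.2).1, mul_one]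
  have hl : ∀ w : P, π (lam w) = ρ w := fun w => (ev w w.2).2
  have mem : ∀ w, ρ w ∈ Om → w ∈ P := fun w hw => by
    obtain ⟨a, ⟨h, -⟩ | ⟨-, h⟩⟩ := inv w
    · show (Λ w (1, false)).2 = false
      rw [h]
    · exact absurd ((Om.mul_mem_cancel_right hw).1 (h ▸ hr ▸ ⟨a, rfl⟩)) (refl_notMem (S_aN 0))
  have su : ∀ g ∈ Om, ∃ k ∈ lam.range, π k = g := fun g hg => by
    obtain ⟨w, rfl⟩ : g ∈ ρ.range := by rw [sg_gen (N := ρ.range) fun i => ⟨_, hρ i⟩]; trivial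
    exact ⟨_, ⟨⟨w, mem w hg⟩, rfl⟩, hl _⟩
  refine ⟨lam.range, fun k hk1 hk2 => ?_, su⟩
  have k2 : 1 ≤ Nat.card lam.ker := Nat.card_pos
  have i2 : 2 ≤ P.index := by
    have : P.index ≠ 1 := fun h => by
      have : E₆.simple 0 ∈ P := by rw [index_eq_one.1 h]; trivial
      change (Λ _ (1, false)).2 = false at this
      rw [hΛ] at this; cases this
    have := P.index_ne_zero_of_finite
    omega
  have c1 := P.card_mul_index
  have c2 := lam.ker.card_mul_index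
  rw [index_ker] at c2
  rw [card_E6, ← c2] at c1
  have c3 : Nat.card lam.range ≤ Nat.card Om := by
    have := Nat.mul_le_mul (Nat.mul_le_mul k2 (le_refl (Nat.card lam.range))) i2
    rw [card_Om]; omega
  let f : lam.range →* Om := (π.comp lam.range.subtype).codRestrict _ fun k => hr ▸ ⟨k.1, rfl⟩
  have fb := (show Function.Surjective f from fun g => by
    obtain ⟨k, h1, h2⟩ := su g g.2
    exact ⟨⟨k, h1⟩, Subtype.ext h2⟩).bijective_of_nat_card_le c3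
  exact congrArg Subtype.val (fb.1 (a₁ := ⟨k, hk1⟩) (a₂ := 1) (by rw [map_one]; exact Subtype.ext hk2))

end Cfsg.Agent.SuzA

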