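import Cfsg.Agent.SuzR.G2
import Cfsg.Agent.SuzR.L
import Cfsg.Agent.LES.Basic

/-! Local facts of the Suzuki group in the letters `u`: `cent_z`, `card_cent_z`, `le_Q0`, `card_Q0`, `cent_zs`, `cent_zy`,
`inv_u`, `ex7_u`, `prod_u` (generated certificate, helper20). -/

set_option autoImplicit false
set_option maxRecDepth 100000
set_option exponentiation.threshold 100000

namespace Cfsg.Agent.SuzR

open Cfsg.Agent.Comp Cfsg.Agent.Known Subgroup Equiv Cfsg.Agent.Known.Mdl MulAction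

/-- substitution of words for letters. -/
def flat (us : List (List ℕ)) (w : List ℕ) : List ℕ :=
  List.rec (motive := fun _ => List ℕ) [] (fun a _ ih => appendL (nthL [] us a) ih) w

section
variable {Γ : Type*} [Group Γ] {y : ℕ → Γ}

theorem W_flat (us : List (List ℕ)) (w : List ℕ) : W y (flat us w) = W (fun j => W y (nthL [] us j)) w := by
  induction w with
  | nil => rfl
  | cons a w ih => rw [W_cons, ← ih, ← W_append, ← appendL_eq]; rfl

theorem two_mul_card_le [Finite Γ] {H K : Subgroup Γ} (h : H ≤ K) {t : Γ} (ht : t ∈ K) (hn : t ∉ H) :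
    2 * Nat.card H ≤ Nat.card K := by
  rw [← (H.subgroupOf K).index_mul_card, Nat.card_congr (subgroupOfEquivOfLe h).toEquiv]
  exact Nat.mul_le_mul_right _ (one_lt_index_of_ne_top fun e => hn (show (⟨t, ht⟩ : K) ∈ H.subgroupOf K from e ▸ mem_top _))

variable {φ : Γ →* Perm ℕ} {N k n : ℕ} {ac : ℕ → ℕ → ℕ} {B₀ : List ℕ} (M : Mdl φ N k n y ac B₀)
include M

theorem eqB_of {v w : List ℕ} (hB : ∀ b ∈ B₀, b < N) (h : W y v = W y w) : eqB ac B₀ v w = true :=
  allL_iff.2 fun b hb => nbeq.2 (by rw [← M.applyW _ (hB b hb), ← M.applyW _ (hB b hb), h])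

theorem fix_set {w : List ℕ} {r a : ℕ} {x : Γ} (hx : W y w = x) (h : band (allLt r fun i => band (Nat.blt (get 11 2047 a i) N)
      (Nat.beq (actW ac w (get 11 2047 a i)) (get 11 2047 a i))) (force (orKey r (get 11 2047 a)) fun m =>
      allLt N fun i => bif' (Nat.beq (actW ac w i) i) (tb m i) true) = true) {g : Γ}
    (hg : g ∈ normalizer (zpowers x : Set Γ)) : ∀ i < r, ∃ j < r, φ g (get 11 2047 a i) = get 11 2047 a j := fun i hi => by
  subst hx
  rw [band_eq, Bool.and_eq_true] at h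
  have h1 := allLt_iff.1 h.1 i hi
  have h2 : get 11 2047 a i < N := by rw [band_eq, Bool.and_eq_true, nblt] at h1; exact h1.1
  have h3 := fix_conj (g := g) ((zpowers_le (H := fixB φ [_])).2 (List.forall_mem_singleton.2 (fix_of M h1))
    ((mem_normalizer_iff''.1 hg _).1 (mem_zpowers _)) _ List.mem_cons_self)
  rw [show g * (g⁻¹ * W y w * g) * g⁻¹ = W y w by group] at h3
  exact (fix_pack M h.2 (M.lt g h2) h3).imp fun j hj => ⟨hj.1, hj.2.symm⟩

end

namespace G3

open G1 G2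

def w1 : List (List ℕ) := [[7],[6,10,4,10,4,2,2,5,14],[15],[5,4,5],[5],[9],[10,7],[2,2,5,14,12]]

def e6 : List ℕ := [66,1,8,4,92,44]

def w6 : List (List ℕ) := [[5],[5,4,5],[7],[6],[6,16,7],[6,7,17],[4,5,4,5]]

def w5 : List ℕ := [16,17,16,22]

def sg5 : List (List ℕ) := [[7,9,2,1],[4,10,4],[2],[12]]

def sg7 : List (List ℕ) := [[0,2,1,1,0,0,2,2],[2,1,2,2,0],[0,0,1,1],[2,1]]

noncomputable def aS : ℕ := (nat_lit 0x37aef4de7bcb78ef0ddfbbb76eecdd7bab74ee8d67acb58eb0d27a4b48e90c7f8fb1ee3cc778eb1ce38c2f85b0ae14c2784b08e10b3f67aced9cb3766accd98b2f65acad94b2764ac8d90)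

noncomputable def aY : ℕ := (nat_lit 0x37aef4de7bcb78ef0ddbbb375eead5fabb56eacd43a834fe9ed3ba734de9ad33a6347e8ed1ba3344e88d0ba1340e80bb776aecdd8b9772ae4dc8b8770ae0dc0b7b6f2dcdb8b676cad8db0b5b6b2d4da8b3b672ccd98b2b652c8d90b1f63ac6d8cb1762ac4d88b0f61ac2d84b0760ac0d801f63e87c8f81e63c8788f01762e85c8b81662c8588b01362684c8981262484889011622844888106208408800b61682c8580a61482885009612824848086108208400760e81c8380660c8188300560a814828046088108200360680c818026048088100160280480800600800800)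

variable {Γ : Type*} [Group Γ] {φ : Γ →* Perm ℕ} {y : ℕ → Γ} (M : Md φ y)
include M

theorem cenP {p k n j : ℕ} (hp : p.Prime) {P : Subgroup Γ} (hP : P ≤ centralizer {y 0}) (hc : Nat.card P = p ^ k)
    (hn : ¬ p ^ (k + 1) ∣ 3317760) {f : ℕ → List ℕ} (en : ∀ g ∈ P, ∃ e < n, g = W (yS y) (f e))
    (h : allLt n (fun e => bif' (allL lQ fun q => eqB acS BS (appendL (f e) [q]) (q :: f e))
      (bor (eqB acS BS (f e) []) (eqB acS BS (f e) [12])) true) = true)
    {x : Γ} (hx : ∀ q ∈ Spor.genL (yS y) lQ, Commute x q) (hj : x ^ p ^ j = 1) : x = 1 ∨ x = y 0 := by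
  haveI := M.finite
  obtain ⟨g, hg', hg⟩ := exists_conj_mem_sylow hp hP hc (card_C M) hn
    (mem_centralizer_singleton_iff.2 (ya (y := y) ▸ hx _ (Spor.mem_genL _ (by decide)))) hj
  obtain ⟨e, he, e1⟩ := en _ hg
  have k := allLt_iff.1 h e he
  rw [allL_iff.2 fun q hq => eqB_of (mS M) (by decide) (by
    rw [appendL_eq, W_append, W_cons, W_cons, W_nil, mul_one, ← e1]
    have := ((hx _ ((mem_normalizer_iff''.1 (norm_Q M hg') _).1 (Spor.mem_genL _ hq))).map (MulAut.conj g)).eq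
    simpa [mul_assoc] using this), bif'_true, bor_eq, Bool.or_eq_true] at k
  refine k.imp (fun k => ?_) fun k => ?_
  · exact conj_eq_one_iff.1 (e1.trans ((mS M).eq k))
  · have := e1.trans ((mS M).eq k)
    rw [W_cons, W_nil, mul_one, ya, mul_inv_eq_iff_eq_mul, ← mem_centralizer_singleton_iff.1 hg'] at this
    exact mul_left_cancel this

theorem cQ {x : Γ} (hx : ∀ q ∈ Spor.genL (yS y) lQ, Commute x q) : x = 1 ∨ x = y 0 := by
  haveI := M.finite
  have hC : x ∈ centralizer {y 0} := mem_centralizer_singleton_iff.2 (ya (y := y) ▸ hx _ (Spor.mem_genL _ (by decide)))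
  have h0 : x ^ 3317760 = 1 := by
    simpa [card_C M] using congrArg Subtype.val (pow_card_eq_one' (x := (⟨x, hC⟩ : centralizer {y 0})))
  have odd : ∀ m p : ℕ, Odd p → (x ^ m) ^ p = 1 → x ^ m = 1 ∨ x ^ m = y 0 → x ^ m = 1 := fun m p ⟨t, ht⟩ h h' =>
    h'.resolve_right fun e => a_ne M (by rwa [e, ht, pow_succ, pow_mul, sq, a_sq M, one_pow, one_mul] at h)
  have o5 : orderOf (W (yS y) w5) = 5 := ord_of (mS M) (a := 4) (by norm_num) (by decide +kernel)
  have h3 := odd 40960 (3 ^ 4) (by decide) (by rw [← pow_mul]; exact h0) (cenP M Nat.prime_three (j := 4)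
    (Spor.genL_le fun i hi => memC M (by revert i; decide)) (card_R M) (by norm_num) (memR M) (by decide +kernel)
    (fun q hq => (hx q hq).pow_left _) (by rw [← pow_mul]; exact h0))
  have h5 := odd 663552 (5 ^ 1) (by decide) (by rw [← pow_mul]; exact h0) (cenP M Nat.prime_five (j := 1) (k := 1) (n := 5)
    (P := zpowers (W (yS y) w5)) (zpowers_le.2 (W_mem _ fun i hi => memC M (by revert i; decide)))
    (by rw [Nat.card_zpowers, o5]; rfl) (by norm_num) (f := fun e => flat [w5] (rp 0 e [])) (fun g hg => by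
      obtain ⟨e, he, rfl⟩ := (mem_zp_iff (by norm_num) (o5 ▸ pow_orderOf_eq_one _)).1 hg
      exact ⟨e, o5 ▸ he, by rw [W_flat, W_rp, W_nil, mul_one]; rfl⟩) (by decide +kernel)
    (fun q hq => (hx q hq).pow_left _) (by rw [← pow_mul]; exact h0))
  exact cenP M Nat.prime_two (j := 13) (Spor.genL_le fun _ hi => memC M (by simp [hi])) (card_S M) (by norm_num) (memS M)
    (by decide +kernel) hx (by simpa using pow_gcd_eq_one.2 ⟨h3, h5⟩)

theorem le_Q [Finite Γ] : LES.LE (Spor.genL (yS y) lQ) (y 0) := by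
  have z2 : orderOf (y 0) = 2 := orderOf_eq_prime (by rw [sq, a_sq M]) (a_ne M)
  have sq : ∀ x ∈ Spor.genL (yS y) lQ, x * x = 1 ∨ x * x = y 0 := fun x hx => by
    obtain ⟨e, he, rfl⟩ := memQ M x hx
    have k := allLt_iff.1 (show allLt 128 (fun e => bor (eqB acS BS (appendL (wd 2 lQ e) (wd 2 lQ e)) (appendL [] []))
      (eqB acS BS (appendL (wd 2 lQ e) (wd 2 lQ e)) (appendL [12] []))) = true by decide +kernel) e he
    rw [bor_eq, Bool.or_eq_true] at k
    exact k.imp (fun k => by simpa using eq_app (mS M) k) fun k => by simpa [ya] using eq_app (mS M) k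
  have zc : ∀ x ∈ Spor.genL (yS y) lQ, Commute x (y 0) := fun x hx => mem_centralizer_singleton_iff.1 (Q_le M hx)
  refine ⟨⟨z2, ya (y := y) ▸ Spor.mem_genL _ (by decide), zc, fun x _ h => cQ M h, fun a ha b hb => ?_, sq,
    _, Spor.mem_genL _ (show 6 ∈ lQ by decide), _, Spor.mem_genL _ (show 7 ∈ lQ by decide), fun h => ne_of (mS M)
      (u := [6, 7]) (v := [7, 6]) (b := 8) (by decide +kernel) (by simpa using h.eq)⟩, fun x h => cQ M h,
    fun x h => norm_Q M (mem_centralizer_singleton_iff.2 h)⟩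
  have s := fun x hx => (LES.mem_zp z2).2 (sq x hx)
  have := mul_mem (mul_mem (s a ha) (s _ (mul_mem (inv_mem ha) hb))) (s _ (inv_mem hb))
  rw [show a * a * (a⁻¹ * b * (a⁻¹ * b)) * (b⁻¹ * b⁻¹) = a * b * a⁻¹ * b⁻¹ by group, LES.mem_zp z2] at this
  exact this.imp mul_inv_eq_one.1 fun h => (mul_inv_eq_iff_eq_mul.1 h).trans (zc b hb).eq.symm

omit M

theorem uS {v w : List ℕ} (h : eqB act BS (flat lw v) (flat TS.us w) = true) : W u v = W (yS T.y) w :=
  (W_flat lw v).symm.trans ((mdl.eq h).trans (W_flat TS.us w))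

theorem u8 : u 8 = T.y 0 := mul_one _

theorem comm {i j : ℕ} (h : eqB actU BU [i, j] [j, i] = true) : u i ∈ centralizer {u j} := by
  simpa [mem_centralizer_singleton_iff] using mdU.eq h

theorem gens : ∀ w ∈ [[0], [25, 22]], W (yS T.y) w ∈ centralizer {T.y 0} := fun w hw =>
  W_mem _ fun i hi => memC mdl (by revert i w; decide)

end G3

open G1 G3

theorem card_cent_z : Nat.card (centralizer {u 8}) = 3317760 := G3.u8 ▸ card_C mdl

theorem cent_z : centralizer {u 8} = Spor.genL u [0, 2, 4, 5, 6, 7, 9, 10, 12, 14, 15] := by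
  refine le_antisymm ?_ (Spor.genL_le fun i hi => comm (by revert i; decide +kernel))
  rw [G3.u8, G1.cent mdl]
  refine Spor.genL_le fun i hi => ?_
  have k : ∀ i ∈ lC, eqB act BS (flat lw (nthL [] w1 (i - 15))) (flat TS.us [i]) = true ∧
    ∀ j ∈ nthL [] w1 (i - 15), j ∈ [0, 2, 4, 5, 6, 7, 9, 10, 12, 14, 15] := by decide +kernel
  rw [← (uS (k i hi).1).trans (mul_one _)]
  exact W_mem _ fun j hj => Spor.mem_genL _ ((k i hi).2 j hj)

/-- `O₂(C(z))`. -/
noncomputable def Q0 : Subgroup Spor.Suz := Spor.genL u [4, 5, 6, 7, 16, 17]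

theorem Q0_eq : Q0 = Spor.genL (yS T.y) lQ := by
  refine le_antisymm (Spor.genL_le fun i hi => ?_) (Spor.genL_le fun i hi => ?_)
  · have k : ∀ i ∈ [4, 5, 6, 7, 16, 17], ∃ e ∈ e6, eqB act BS (flat lw [i]) (flat TS.us (wd 2 lQ e)) = true := by
      decide +kernel
    obtain ⟨e, -, h⟩ := k i hi
    rw [← mul_one (u i), show u i * 1 = _ from uS h]
    exact wd_mem _ (fun j hj => Spor.mem_genL _ hj) _
  · have k : ∀ i ∈ lQ, eqB act BS (flat lw (nthL [] w6 (i - 6))) (flat TS.us [i]) = true ∧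
      ∀ j ∈ nthL [] w6 (i - 6), j ∈ [4, 5, 6, 7, 16, 17] := by decide +kernel
    rw [← (uS (k i hi).1).trans (mul_one _)]
    exact W_mem _ fun j hj => Spor.mem_genL _ ((k i hi).2 j hj)

theorem card_Q0 : Nat.card Q0 = 2 ^ 7 := Q0_eq ▸ card_Q mdl

theorem le_Q0 [Finite Spor.Suz] : LES.LE Q0 (u 8) := Q0_eq ▸ G3.u8 ▸ le_Q mdl

theorem inv_u (w : Spor.Suz) (h : w * w = 1) : w = 1 ∨ IsConj (u 8) w ∨ IsConj (u 15) w :=
  G3.u8 ▸ (show u 15 = T.y 4 from mul_one _) ▸ inv_cl mdl h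

theorem ex7_u : ∃ k : Spor.Suz, orderOf k = 7 ∧ Commute k (u 15) := (show u 15 = T.y 4 from mul_one _) ▸ G1.ex7 mdl

theorem not_conj_u : ¬ IsConj (u 8) (u 15) := G3.u8 ▸ (show u 15 = T.y 4 from mul_one _) ▸ nc mdl

theorem prod_u (w : Spor.Suz) (h1 : Commute w (u 8)) (h2 : IsConj (u 8) w) (h3 : w ≠ u 8) : IsConj (u 8) (u 8 * w) := by
  rw [G3.u8] at h1 h2 h3 ⊢; exact G1.prod mdl h1 h2 h3

theorem cent_zs' : centralizer {u 8} ⊓ centralizer {u 7} = closure {u 12, u 12 * u 15, u 18} ∧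
    Nat.card ↥(centralizer {u 8} ⊓ centralizer {u 7}) = 61440 := by
  haveI := mdl.finite
  have h1 : closure {u 12, u 12 * u 15, u 18} ≤ centralizer {u 8} ⊓ centralizer {u 7} := by
    have k : ∀ i ∈ [12, 15, 18], u i ∈ centralizer {u 8} ⊓ centralizer {u 7} := fun i hi =>
      ⟨comm (by revert i; decide +kernel), comm (by revert i; decide +kernel)⟩
    simp only [closure_le, Set.insert_subset_iff, Set.singleton_subset_iff]
    exact ⟨k 12 (by decide), mul_mem (k 12 (by decide)) (k 15 (by decide)), k 18 (by decide)⟩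
  have h2 : 61440 ≤ Nat.card (closure {u 12, u 12 * u 15, u 18}) :=
    le_card_sub mdU (mapL (flat [[12], [12, 15], [18]]) sg7) (fun w hw => by
      rw [mapL_eq] at hw
      obtain ⟨v, hv, rfl⟩ := List.mem_map.1 hw
      rw [W_flat]
      refine W_mem _ fun a ha => subset_closure ?_
      have : a < 3 := by revert a v; decide
      interval_cases a <;> simp [nthL_eq]) [4, 0, 8] 321 (by decide +kernel)
  have h3 : Nat.card ↥(centralizer {u 8} ⊓ centralizer {u 7}) ≤ 61440 :=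
    set_step (mS mdl) _ gens (r := 54) (a := aS) (b := 54) (fun k => Nat.mod k 291) (card_C mdl).le (G3.u8 ▸ inf_le_left)
      (fun g hg => fix_set (mS mdl) (w := [15]) (x := u 7) ((uS (v := [7]) (by decide +kernel)).symm.trans (mul_one _)) (by decide +kernel)
        (centralizer_le_normalizer _ (mem_cent_zp.2 (mem_centralizer_singleton_iff.1 hg.2)))) (by decide +kernel)
  exact ⟨(eq_of_le_of_card_ge h1 (h3.trans h2)).symm, le_antisymm h3 (h2.trans (card_le_of_le h1))⟩

theorem cent_zs : centralizer {u 8} ⊓ centralizer {u 7} = closure {u 12, u 12 * u 15, u 18} := cent_zs'.1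

set_option maxHeartbeats 0 in
theorem cent_zy' : centralizer {u 8} ⊓ centralizer {u 12} = Spor.genL u [0, 1, 2, 3, 4, 5, 6, 7, 8, 9, 10, 12] ∧
    Nat.card ↥(centralizer {u 8} ⊓ centralizer {u 12}) = 3456 := by
  haveI := mdl.finite
  have h1 : Spor.genL u [0, 1, 2, 3, 4, 5, 6, 7, 8, 9, 10, 12] ≤ centralizer {u 8} ⊓ centralizer {u 12} :=
    Spor.genL_le fun i hi => ⟨comm (by revert i; decide +kernel), comm (by revert i; decide +kernel)⟩
  have h2 : 3456 ≤ Nat.card (Spor.genL u [0, 1, 2, 3, 4, 5, 6, 7, 8, 9, 10, 12]) :=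
    le_card_sub mdU sg5 (fun w hw => W_mem _ fun a ha => Spor.mem_genL _ (by revert a w; decide)) [0, 8, 4] 145
      (by decide +kernel)
  have h3 : Nat.card ↥(centralizer {u 8} ⊓ normalizer (zpowers (u 12) : Set Spor.Suz)) ≤ 6912 :=
    set_step (mS mdl) _ gens (r := 162) (a := aY) (b := 480) (fun k => Nat.mod k 16135) (card_C mdl).le
      (G3.u8 ▸ inf_le_left) (fun g hg => fix_set (mS mdl) (w := [27, 27]) (x := u 12)
        ((uS (v := [12]) (by decide +kernel)).symm.trans (mul_one _)) (by decide +kernel) hg.2) (by decide +kernel)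
  have h4 := two_mul_card_le (H := centralizer {u 8} ⊓ centralizer {u 12}) (t := u 14) (inf_le_inf_left _ fun g hg =>
    centralizer_le_normalizer _ (mem_cent_zp.2 (mem_centralizer_singleton_iff.1 hg))) ⟨comm (by decide +kernel),
      mem_norm_zp (r := 2) (by simpa [sq, mul_assoc] using mdU.eq (u := [14, 12]) (v := [12, 12, 14]) (by decide +kernel))⟩
    fun h => ne_of mdU (u := [14, 12]) (v := [12, 14]) (b := 4) (by decide +kernel)
      (by simpa using mem_centralizer_singleton_iff.1 h.2)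
  exact ⟨(eq_of_le_of_card_ge h1 (by omega)).symm, le_antisymm (by omega) (h2.trans (card_le_of_le h1))⟩

theorem cent_zy : centralizer {u 8} ⊓ centralizer {u 12} = Spor.genL u [0, 1, 2, 3, 4, 5, 6, 7, 8, 9, 10, 12] := cent_zy'.1

end Cfsg.Agent.SuzR
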