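import Cfsg.Agent.SuzR.A3
import Cfsg.Agent.SuzR.G3
import Cfsg.Agent.U4R.Top

/-! Recognition of the Suzuki group, the 3-local step (helper24): `Cq c = C(c)/⟨c⟩`, `graph` (pairs satisfying the relations
of `U4(3)` modulo a central pair generate the graph of a map), `Sw` (an isomorphism `f : C(u 8) → C(z)` and the involution
`v`), `Sw.chain`, `Sw.amal` (`C(y)/⟨y⟩` contains the amalgam of `U4(3)`), `Sw.pin`. -/

set_option autoImplicit false
set_option maxRecDepth 100000

namespace Cfsg.Agent.SuzR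

open Cfsg.Agent.HJ Cfsg.Agent.U4R Cfsg.Agent.Comp Cfsg.Agent.Spor Cfsg.Agent.Known Cfsg.Agent.SuzA Subgroup

section
variable {A : Type*} [Group A] {c x y : A}

instance nrmZ (c : A) : ((zpowers c).subgroupOf (centralizer {c})).Normal := ⟨fun n hn g => by
  obtain ⟨k, e⟩ := mem_zpowers_iff.1 (mem_subgroupOf.1 hn)
  have : Commute g.1 n.1 := e ▸ Commute.zpow_right (memC.1 g.2) k
  rwa [show g * n * g⁻¹ = n from mul_inv_eq_iff_eq_mul.2 (Subtype.ext this.eq)]⟩

/-- `C(c)/⟨c⟩`. -/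
abbrev Cq (c : A) : Type _ := centralizer {c} ⧸ (zpowers c).subgroupOf (centralizer {c})

open _root_.Classical in
/-- the image in `C(c)/⟨c⟩`. -/
noncomputable def mq (c x : A) : Cq c := if h : Commute x c then QuotientGroup.mk ⟨x, memC.2 h⟩ else 1

theorem mq_eq (h : Commute x c) : mq c x = QuotientGroup.mk ⟨x, memC.2 h⟩ := dif_pos h
theorem mq_mul (h : Commute x c) (k : Commute y c) : mq c (x * y) = mq c x * mq c y := by
  rw [mq_eq h, mq_eq k, mq_eq (h.mul_left k)]; rfl
theorem mq_inv (h : Commute x c) : mq c x⁻¹ = (mq c x)⁻¹ := by rw [mq_eq h, mq_eq h.inv_left]; rfl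
theorem mq_one (h : Commute x c) : mq c x = 1 ↔ x ∈ zpowers c := by
  rw [mq_eq h, QuotientGroup.eq_one_iff, mem_subgroupOf]
theorem mq1 : mq c 1 = 1 := (mq_one (.one_left c)).2 (one_mem _)
theorem mq_sur (t : Cq c) : ∃ x, Commute x c ∧ mq c x = t := by
  obtain ⟨a, rfl⟩ := QuotientGroup.mk_surjective t
  exact ⟨a, memC.1 a.2, mq_eq (memC.1 a.2)⟩
theorem ev_mq {a : ℕ → A} {w : List ℕ} (h : ∀ i ∈ w, Commute (a i) c) :
    Commute (ev a w) c ∧ ev (fun i => mq c (a i)) w = mq c (ev a w) := by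
  induction w with
  | nil => exact ⟨.one_left c, mq1.symm⟩
  | cons i w ih =>
    obtain ⟨h1, h2⟩ := ih fun j hj => h j (List.mem_cons_of_mem _ hj)
    have := h i List.mem_cons_self
    exact ⟨h1.mul_left this, by rw [ev_cons, ev_cons, h2, mq_mul h1 this]⟩

theorem mem3 (h : c * c * c = 1) (hx : x ∈ zpowers c) : x = 1 ∨ x = c ∨ x = c * c := by
  obtain ⟨k, rfl⟩ := mem_zpowers_iff.1 hx
  rw [zpow_eq_zpow_emod k (n := 3) (by rw [← h, ← pow_three']; exact zpow_natCast c 3)]
  have : k % 3 = 0 ∨ k % 3 = 1 ∨ k % 3 = 2 := by omega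
  rcases this with e | e | e <;> rw [e]
  exacts [.inl (zpow_zero _), .inr (.inl (zpow_one _)), .inr (.inr (zpow_two _))]

theorem two3 (h : c * c * c = 1) (hx : x ∈ zpowers c) (h2 : x * x = 1) : x = 1 := by
  have : x * x * x = 1 := by
    obtain ⟨k, rfl⟩ := mem_zpowers_iff.1 hx
    rw [← pow_three', ← zpow_natCast, ← zpow_mul, mul_comm, zpow_mul, zpow_natCast, pow_three', h, one_zpow]
  rwa [h2, one_mul] at this

theorem ev_W (a : ℕ → A) (w : List ℕ) : ev a w = W a w.reverse := by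
  induction w with
  | nil => rfl
  | cons i w ih => simp [ih]

theorem graph {B : Type*} [Group B] {a : ℕ → A} {b : ℕ → B} (h1 : a 255 = 1) (h2 : b 255 = 1)
    (hc : ∀ i < 14, Commute (prG a b i) (prG a b 12)) (hr : ∀ w ∈ JU4U.rels, ev (prG a b) w ∈ zpowers (prG a b 12))
    (h13 : prG a b 13 = (prG a b 12)⁻¹) (h8 : a 8 ∉ zpowers (a 12)) (ho : ∀ k : ℤ, a 12 ^ k = 1 → b 12 ^ k = 1) {g : B}
    (hg : (1, g) ∈ genL (prG a b) (List.range 14)) : g = 1 := by
  set π := prG a b
  set c := π 12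
  obtain ⟨ρ, r1, r2⟩ := homU (g := fun i => mq c (π i)) (by rw [show π 255 = 1 from prG_255 h1 h2, mq1]) fun w hw => by
    have := ev_mq (a := π) (c := c) (w := w) fun i hi =>
      hc i ((lt_of_chkLet (nl := 12) (ws := JU4U.rels) (by decide +kernel) w hw i hi).trans (by decide))
    rw [this.2, mq_one this.1]; exact hr w hw
  have K : ∀ k ∈ genL π (List.range 14), Commute k c ∧ mq c k ∈ ρ.range := fun k hk => by
    induction hk using closure_induction with
    | mem _ h =>
      obtain ⟨i, hi, rfl⟩ := h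
      have hi := List.mem_range.1 hi
      refine ⟨hc i hi, ?_⟩
      rcases lt_or_ge i 12 with h | h
      · exact ⟨_, r1 i (List.mem_range.2 h)⟩
      · rw [(mq_one (hc i hi)).2 (by interval_cases i; exacts [mem_zpowers c, h13 ▸ inv_mem (mem_zpowers c)])]
        exact one_mem _
    | one => exact ⟨.one_left _, by rw [mq1]; exact one_mem _⟩
    | mul _ _ _ _ p q => exact ⟨p.1.mul_left q.1, mq_mul p.1 q.1 ▸ mul_mem p.2 q.2⟩
    | inv _ _ p => exact ⟨p.1.inv_left, mq_inv p.1 ▸ inv_mem p.2⟩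
  have K' : ∀ t, ∃ k ∈ genL π (List.range 14), mq c k = ρ t := fun t => by
    have : ρ t ∈ genL (fun i => mq c (π i)) (List.range 12) := r2 ▸ ⟨t, rfl⟩
    generalize ρ t = r at this
    induction this using closure_induction with
    | mem _ h =>
      obtain ⟨i, hi, rfl⟩ := h
      exact ⟨π i, mem_genL π (List.mem_range.2 ((List.mem_range.1 hi).trans (by decide))), rfl⟩
    | one => exact ⟨1, one_mem _, mq1⟩
    | mul _ _ _ _ p q =>
      obtain ⟨p, p1, rfl⟩ := p; obtain ⟨q, q1, rfl⟩ := q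
      exact ⟨_, mul_mem p1 q1, mq_mul (K p p1).1 (K q q1).1⟩
    | inv _ _ p => obtain ⟨p, p1, rfl⟩ := p; exact ⟨_, inv_mem p1, mq_inv (K p p1).1⟩
  let J : Subgroup U43P.G :=
    { carrier := {t | ∃ k ∈ genL π (List.range 14), k.1 = 1 ∧ mq c k = ρ t}
      one_mem' := ⟨1, one_mem _, rfl, by rw [mq1, map_one]⟩
      mul_mem' := fun ⟨p, p1, p2, p3⟩ ⟨q, q1, q2, q3⟩ => ⟨p * q, mul_mem p1 q1, by rw [Prod.fst_mul, p2, q2, mul_one],
        by rw [mq_mul (K p p1).1 (K q q1).1, p3, q3, map_mul]⟩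
      inv_mem' := fun ⟨p, p1, p2, p3⟩ => ⟨p⁻¹, inv_mem p1, by rw [Prod.fst_inv, p2, inv_one],
        by rw [mq_inv (K p p1).1, p3, map_inv]⟩ }
  have nJ : J.Normal := ⟨fun t ⟨p, p1, p2, p3⟩ s => by
    obtain ⟨k, k1, k2⟩ := K' s
    exact ⟨k * p * k⁻¹, mul_mem (mul_mem k1 p1) (inv_mem k1), by simp [p2], by
      rw [mq_mul ((K k k1).1.mul_left (K p p1).1) (K k k1).1.inv_left, mq_mul (K k k1).1 (K p p1).1, mq_inv (K k k1).1, k2, p3,
        map_mul, map_mul, map_inv]⟩⟩
  have := simpleU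
  rcases nJ.eq_bot_or_eq_top with e | e
  · obtain ⟨t, ht⟩ := (K _ hg).2
    have : t ∈ J := ⟨_, hg, rfl, ht.symm⟩
    rw [e, mem_bot] at this
    rw [this, map_one, eq_comm, mq_one (K _ hg).1] at ht
    obtain ⟨k, e⟩ := mem_zpowers_iff.1 ht
    exact (congrArg Prod.snd e).symm.trans (ho k (congrArg Prod.fst e))
  · obtain ⟨p, p1, p2, p3⟩ : uU 8 ∈ J := e ▸ mem_top _
    rw [r1 8 (by decide), ← mul_inv_eq_one, ← mq_inv (hc 8 (by decide)), ← mq_mul (K p p1).1 (hc 8 (by decide)).inv_left,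
      mq_one ((K p p1).1.mul_left (hc 8 (by decide)).inv_left)] at p3
    obtain ⟨k, e⟩ := mem_zpowers_iff.1 p3
    have := congrArg Prod.fst e
    rw [Prod.fst_mul, p2, one_mul] at this
    exact absurd (inv_mem_iff.1 (mem_zpowers_iff.2 ⟨k, this⟩)) h8

theorem mem_two {K : Subgroup A} {d : A} (dd : d * d = 1) (hd : ∀ k ∈ K, d * k * d ∈ K) {T : Set A}
    (hT : ∀ t ∈ T, t ∈ K ∨ t = d) (hx : x ∈ closure T) : x ∈ K ∨ x * d ∈ K := by
  induction hx using closure_induction with
  | mem t h => exact (hT t h).imp_right fun e => by rw [e, dd]; exact one_mem _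
  | one => exact .inl (one_mem _)
  | mul a b _ _ p q =>
    have e : ∀ t, d * (d * t) = t := fun t => by rw [← mul_assoc, dd, one_mul]
    rcases p with p | p <;> rcases q with q | q
    · exact .inl (mul_mem p q)
    · exact .inr (mul_assoc a b d ▸ mul_mem p q)
    · exact .inr (by simpa only [mul_assoc, e] using mul_mem p (hd b q))
    · exact .inl (by simpa only [mul_assoc, e, dd, mul_one] using mul_mem p (hd _ q))
  | inv a _ p =>
    refine p.imp inv_mem fun p => ?_
    have := hd _ (inv_mem p)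
    rwa [mul_inv_rev, inv_of_sq dd, ← mul_assoc, dd, one_mul] at this

end

/-- check of an identity. -/
noncomputable def idc (v w : List ℕ) : Bool := eqB actU BU v.reverse w.reverse

theorem idS {v w : List ℕ} (h : idc v w = true) : ev u v = ev u w := by rw [ev_W, ev_W]; exact mdU.eq h

theorem neS {v w : List ℕ} (h : idc v w = false) : ev u v ≠ ev u w := fun e => by
  rw [ev_W, ev_W] at e
  rw [idc, eqB_of mdU (by decide) e] at h; cases h

theorem cmS {i j : ℕ} (h : idc [i, j] [j, i] = true) : Commute (u j) (u i) :=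
  show _ = _ by simpa using idS h

/-- letters in `C(z)`. -/
def hl (i : ℕ) : Bool := i != 11 && i != 19 && i != 20 && i != 21 && i < 23

theorem cz {i : ℕ} (h : hl i = true) : Commute (u i) (u 8) := by
  have : ∀ i < 23, hl i = true → idc [8, i] [i, 8] = true := by decide +kernel
  exact cmS (this i (by simp [hl] at h; omega) h)

/-- inverse letters. -/
def ivL (i : ℕ) : ℕ := nthL 0 [1, 0, 3, 2, 4, 5, 6, 7, 8, 9, 10, 11, 13, 12, 14] i

theorem u_iv {i : ℕ} (h : i < 15) : u (ivL i) = (u i)⁻¹ := by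
  have : ∀ i < 15, idc [ivL i, i] [] = true := by decide +kernel
  exact eq_inv_of_mul_eq_one_right (by simpa using idS (this i h))

theorem cv {m : Cfsg.Spor.Suz} (h : Commute m (u 8)) (k : Commute m (u 7)) :
    Commute (u 11 * m * (u 11)⁻¹) (u 8) ∧ Commute (u 11 * m * (u 11)⁻¹) (u 7) := by
  have c := cmS (i := 7) (j := 11) (by decide +kernel)
  have e : u 11 * (u 8 * u 7) * (u 11)⁻¹ = u 8 :=
    mul_inv_eq_iff_eq_mul.2 (by simpa [mul_assoc] using idS (v := [7, 8, 11]) (w := [11, 8]) (by decide +kernel))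
  exact ⟨e ▸ (h.mul_right k).map (MulAut.conj (u 11)), (c.mul_left k).mul_left c.inv_left⟩

/-- the conjugates of `c` along `w` stay where the action of the letters is known. -/
noncomputable def chn : List ℕ → List ℕ → Bool
  | [], _ => true
  | x :: w, c => (Nat.blt x 15 && (x != 11 || idc (7 :: c) (c ++ [7]))) && chn w (ivL x :: (c ++ [x]))

variable {G : Type*} [Group G] [Finite G] [Finite Cfsg.Spor.Suz]

/-- The centraliser of `z` and the involution `v`. -/
structure Sw (z v : G) (f : Cfsg.Spor.Suz → G) : Prop where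
  L : Loc (u 8) z f
  vv : v * v = 1
  vz : v * z * v⁻¹ = z * f (u 7)
  vM : ∀ m, Commute m (u 8) → Commute m (u 7) → v * f m * v⁻¹ = f (u 11 * m * (u 11)⁻¹)
  br : f (u 6) * v * f (u 6) = v * f (u 6) * v

/-- the letters in `G`. -/
noncomputable def gl (f : Cfsg.Spor.Suz → G) (v : G) (i : ℕ) : G := if i = 11 then v else f (u i)

namespace Sw
variable {z v : G} {f : Cfsg.Spor.Suz → G} (S : Sw z v f)
include S

omit S in
theorem gl_ne {i : ℕ} (h : hl i = true) : gl f v i = f (u i) := if_neg (by rintro rfl; cases h)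

theorem evH {w : List ℕ} (h : w.all hl = true) : Commute (ev u w) (u 8) ∧ ev (gl f v) w = f (ev u w) := by
  induction w with
  | nil => exact ⟨.one_left _, S.L.one.symm⟩
  | cons i w ih =>
    rw [List.all_cons, Bool.and_eq_true] at h
    obtain ⟨h1, h2⟩ := ih h.2
    exact ⟨h1.mul_left (cz h.1), by rw [ev_cons, ev_cons, h2, S.L.mul h1 (cz h.1), gl_ne h.1]⟩

theorem idH {w w' : List ℕ} (h : (w.all hl && w'.all hl && idc w w') = true) : ev (gl f v) w = ev (gl f v) w' := by
  simp only [Bool.and_eq_true] at h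
  rw [(S.evH h.1.1).2, (S.evH h.1.2).2, idS h.2]

theorem chain (w : List ℕ) : ∀ c, chn w c = true → Commute (ev u c) (u 8) →
    κ (ev (gl f v) w) (f (ev u c)) = f (κ (ev u w) (ev u c)) := by
  induction w with
  | nil => intro c _ _; simp
  | cons x w ih =>
    intro c h hc
    simp only [chn, Bool.and_eq_true, Bool.or_eq_true, Nat.blt_eq, bne_iff_ne] at h
    obtain ⟨⟨h1, h2⟩, h3⟩ := h
    have e : ev u (ivL x :: (c ++ [x])) = κ (u x) (ev u c) := by simp [ev_append, u_iv h1]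
    have k : Commute (κ (u x) (ev u c)) (u 8) ∧ κ (gl f v x) (f (ev u c)) = f (κ (u x) (ev u c)) := by
      by_cases e : x = 11
      · subst e
        have c7 : Commute (ev u c) (u 7) := show _ = _ by simpa [ev_append] using idS (h2.resolve_left fun h => h rfl)
        exact ⟨(cv hc c7).1, S.vM _ hc c7⟩
      · have : hl x = true := by simp [hl]; omega
        exact ⟨((cz this).mul_left hc).mul_left (cz this).inv_left, by rw [gl_ne this]; exact (S.L.cj (cz this) hc).symm⟩
    rw [ev_cons, ev_cons, cj_mul, cj_mul, k.2, ← e]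
    exact ih _ h3 (e ▸ k.1)

theorem cy {i : ℕ} (h : i < 14) : Commute (u i) (u 12) ∧ Commute (gl f v i) (f (u 12)) := by
  have : ∀ i < 14, idc [12, i] [i, 12] = true := by decide +kernel
  have c := cmS (this i h)
  refine ⟨c, ?_⟩
  by_cases e : i = 11
  · subst e
    have := S.vM _ (cz (i := 12) rfl) (cmS (by decide +kernel))
    rw [mul_inv_eq_iff_eq_mul.2 c.eq] at this
    exact mul_inv_eq_iff_eq_mul.1 this
  · have : hl i = true := by simp [hl]; omega
    rw [gl_ne this, S.L.comm (cz this) (cz rfl)]; exact c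

theorem y3 : f (u 12) * f (u 12) * f (u 12) = 1 := by
  simpa [gl] using S.idH (w := [12, 12, 12]) (w' := []) (by decide +kernel)

theorem g8 : gl f v 8 = z := S.L.fz

theorem zz : z * z = 1 ∧ z ≠ 1 := ⟨by simpa [S.g8] using S.idH (w := [8, 8]) (w' := []) (by decide +kernel), fun e =>
  neS (v := [8]) (w := []) (by decide +kernel) (by simpa using S.L.inj (.refl _) (S.L.fz.trans e))⟩

theorem lets_eq {i : ℕ} (h : i < 12) : lets (mq (f (u 12)) (gl f v 0)) (mq (f (u 12)) (gl f v 2)) (mq (f (u 12)) (gl f v 4))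
    (mq (f (u 12)) (gl f v 5)) (mq (f (u 12)) (gl f v 6)) (mq (f (u 12)) (gl f v 7)) (mq (f (u 12)) (gl f v 8))
    (mq (f (u 12)) (gl f v 9)) (mq (f (u 12)) (gl f v 10)) (mq (f (u 12)) (gl f v 11)) i = mq (f (u 12)) (gl f v i) := by
  have k : ∀ j < 14, hl j = true → hl (ivL j) = true → mq (f (u 12)) (gl f v (ivL j)) = (mq (f (u 12)) (gl f v j))⁻¹ :=
    fun j h1 h2 h3 => by rw [← mq_inv (S.cy h1).2, gl_ne h2, gl_ne h3, u_iv (by omega), S.L.inv (cz h2)]
  interval_cases i
  exacts [rfl, (k 0 (by decide) rfl rfl).symm, rfl, (k 2 (by decide) rfl rfl).symm, rfl, rfl, rfl, rfl, rfl, rfl, rfl, rfl]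

theorem evq {w w' : List ℕ} (h : chkLet (List.range 14) [w, w'] = true) (e : ev (gl f v) w = ev (gl f v) w') :
    ev (fun i => mq (f (u 12)) (gl f v i)) w = ev (fun i => mq (f (u 12)) (gl f v i)) w' := by
  have := lt_of_chkLet h
  rw [(ev_mq fun i hi => (S.cy (this w (by simp) i hi)).2).2, (ev_mq fun i hi => (S.cy (this w' (by simp) i hi)).2).2, e]

theorem amal : Amal (mq (f (u 12)) (gl f v 0)) (mq (f (u 12)) (gl f v 2)) (mq (f (u 12)) (gl f v 4))
    (mq (f (u 12)) (gl f v 5)) (mq (f (u 12)) (gl f v 6)) (mq (f (u 12)) (gl f v 7)) (mq (f (u 12)) (gl f v 8))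
    (mq (f (u 12)) (gl f v 9)) (mq (f (u 12)) (gl f v 10)) (mq (f (u 12)) (gl f v 11)) := by
  have l : ∀ i < 11, lets (mq (f (u 12)) (gl f v 0)) (mq (f (u 12)) (gl f v 2)) (mq (f (u 12)) (gl f v 4))
      (mq (f (u 12)) (gl f v 5)) (mq (f (u 12)) (gl f v 6)) (mq (f (u 12)) (gl f v 7)) (mq (f (u 12)) (gl f v 8))
      (mq (f (u 12)) (gl f v 9)) (mq (f (u 12)) (gl f v 10)) 1 i = mq (f (u 12)) (gl f v i) := fun i h => by
    rw [← S.lets_eq (i := i) (by omega)]; interval_cases i <;> rfl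
  have zy : Commute z (f (u 12)) := S.g8 ▸ (S.cy (i := 8) (by decide)).2
  have V : ∀ i j, hl i = true → hl j = true → idc [7, i] [i, 7] = true → idc [11, i, 11, i] [j] = true →
      ev (gl f v) [11, i, 11, i] = ev (gl f v) [j] := fun i j h1 h2 h3 h4 => by
    have a := S.vM _ (cz h1) (cmS h3)
    have b : u i * (u 11 * u i * (u 11)⁻¹) = u j := by
      rw [← u_iv (by decide)]; simpa [mul_assoc, show ivL 11 = 11 from rfl] using idS h4
    rw [inv_of_sq S.vv] at a
    simp only [ev_cons, ev_nil, one_mul, gl_ne h1, gl_ne h2]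
    rw [← b, S.L.mul (cz h1) (cv (cz h1) (cmS h3)).1, ← a]; simp [gl, mul_assoc]
  refine ⟨rels_congr (fun w hw => ?_) l (by decide +kernel), fun e => ?_, le_antisymm (genL_le fun i hi => ?_) fun t ht => ?_,
    ?_, ?_, ?_, ?_, ?_, ?_⟩
  · have : ∀ w ∈ JU4H.rels, chkLet (List.range 14) [w, []] = true ∧ (w.all hl && [].all hl && idc w []) = true := by
      decide +kernel
    exact S.evq (this w hw).1 (S.idH (this w hw).2)
  · rw [S.g8, mq_one zy] at e
    exact S.zz.2 (two3 S.y3 e S.zz.1)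
  · have : ∀ i < 11, chkLet (List.range 14) [[8, i], [i, 8]] = true ∧
      ([8, i].all hl && [i, 8].all hl && idc [8, i] [i, 8]) = true := by decide +kernel
    have h := List.mem_range.1 hi
    rw [l i h, memC]
    simpa using S.evq (this i h).1 (S.idH (this i h).2)
  · obtain ⟨x, hx, rfl⟩ := mq_sur t
    rw [memC, S.g8, ← mq_mul hx zy, ← mq_mul zy hx, ← mul_inv_eq_one, ← mq_inv (zy.mul_left hx),
      ← mq_mul (hx.mul_left zy) (zy.mul_left hx).inv_left, mq_one ((hx.mul_left zy).mul_left (zy.mul_left hx).inv_left)] at ht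
    have c : Commute z (x * z * (z * x)⁻¹) := by
      obtain ⟨k, e⟩ := mem_zpowers_iff.1 ht
      exact e ▸ zy.zpow_right k
    have := two3 S.y3 ht (by
      have zz := S.zz.1
      calc _ = x * z * (z * x)⁻¹ * z * (z * (x * z * (z * x)⁻¹)) := by
            rw [mul_assoc _ z (z * _), ← mul_assoc z z, zz, one_mul]
        _ = x * (z * z) * x⁻¹ := by rw [c.eq]; group
        _ = 1 := by rw [zz]; group)
    obtain ⟨m, m1, rfl⟩ := S.L.sur (mul_inv_eq_one.1 this)
    have hm : m ∈ genL u [0, 1, 2, 3, 4, 5, 6, 7, 8, 9, 10, 12] :=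
      cent_zy ▸ ⟨memC.2 m1, memC.2 ((S.L.comm m1 (cz rfl)).1 hx)⟩
    have mem : ∀ k ∈ genL u [0, 1, 2, 3, 4, 5, 6, 7, 8, 9, 10, 12], Commute k (u 8) ∧ Commute (f k) (f (u 12)) :=
      fun k hk => by
      rw [← cent_zy] at hk; exact ⟨memC.1 hk.1, (S.L.comm (memC.1 hk.1) (cz rfl)).2 (memC.1 hk.2)⟩
    clear m1 hx ht c this
    induction hm using closure_induction with
    | mem _ h =>
      obtain ⟨i, hi, rfl⟩ := h
      have : ∀ i ∈ [0, 1, 2, 3, 4, 5, 6, 7, 8, 9, 10, 12], i = 12 ∨ (i < 11 ∧ hl i = true) := by decide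
      rcases this i hi with rfl | ⟨h1, h2⟩
      · rw [(mq_one (.refl _)).2 (mem_zpowers _)]; exact one_mem _
      · rw [← gl_ne (v := v) (f := f) h2, ← l i h1]; exact mem_genL _ (List.mem_range.2 h1)
    | one => rw [S.L.one, mq1]; exact one_mem _
    | mul a b ha hb p q => rw [S.L.mul (mem a ha).1 (mem b hb).1, mq_mul (mem a ha).2 (mem b hb).2]; exact mul_mem p q
    | inv a ha p => rw [S.L.inv (mem a ha).1, mq_inv (mem a ha).2]; exact inv_mem p
  · simpa using S.evq (w := [11, 11]) (w' := []) (by decide) (by simpa [gl] using S.vv)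
  · rw [cj_eq]; simpa using S.evq (w := [8, 11]) (w' := [11, 7, 8]) (by decide) (by
      simpa [gl, S.L.fz] using mul_inv_eq_iff_eq_mul.1 S.vz)
  · have := S.vM _ (cz (i := 7) rfl) (.refl _)
    rw [mul_inv_eq_iff_eq_mul.2 (cmS (i := 7) (j := 11) (by decide +kernel)).eq] at this
    rw [cj_eq]; simpa using S.evq (w := [7, 11]) (w' := [11, 7]) (by decide) (by simpa [gl] using mul_inv_eq_iff_eq_mul.1 this)
  · simpa using S.evq (by decide) (V 4 9 rfl rfl (by decide +kernel) (by decide +kernel))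
  · simpa using S.evq (by decide) (V 5 10 rfl rfl (by decide +kernel) (by decide +kernel))
  · simpa using S.evq (w := [6, 11, 6]) (w' := [11, 6, 11]) (by decide) (by simpa [gl] using S.br)

end Sw

end Cfsg.Agent.SuzR
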