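import Cfsg.Agent.SuzR.G0

/-! Involutions of the Suzuki group: `card_cent_a0`, `cent_a0`, `inv_classes`, `ex7`, `not_conj_ae`, `prod_a0`, the subgroup
`Q0 = O₂(C(a))` (generated certificate, helper20). -/

set_option autoImplicit false
set_option maxRecDepth 100000
set_option exponentiation.threshold 100000

namespace Cfsg.Agent.SuzR

open Cfsg.Agent.Comp Cfsg.Agent.Known Subgroup Equiv Cfsg.Agent.Known.Mdl MulAction

namespace G1

noncomputable def cw2 : ℕ := (nat_lit 0x8004000000000000000000000000000000000000008006002000000000000000000000000000000000008002000800000000000000000000000000000000008002000801200000000000000000000000000000008002000800200080000000000000000000000000008002000800200080420000000000000000000000008002902800200b80530008000000000000000000008006900c80200f807302081620e200000000000000800200080004014005024004606c847000000000008000e03400780f800200b8145800816c0000000000800600380118014002007812581344e21c093800008004703100740080170398173e8225408120848640)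

def F : List ℕ := [1664,1665,1666,1667,1668,1669,1670,1671,1672,1673,1674,1675,1680,1681,1682,1683,1696,1697,1698,1699,1700,
  1701,1702,1703,1712,1713,1714,1715,1748,1749,1750,1751,1756,1757,1758,1759,1760,1761,1762,1763,1768,1769,1770,
  1771,1772,1773,1774,1775,1776,1777,1778,1779,1780,1781]

def aF : ℕ := (nat_lit 0x37aef4de7bcb78ef0ddfbbb76eecdd7bab74ee8dc7b8b70ee0dbfb7b6eedcdafb5b6aed4d67acb58eb0d4fa9b52ea4d47a8b50ea0d27a4b48e90d17a2b44e88d0fa1b42e84d07a0b40e80)

noncomputable def hF : ℕ → ℕ := fun k => force k (ph 8191 682 8 255 (Spor.joinL 4096 [nat_lit 0xb032e18010c0101050b02020f16090000070002050500040202020003000507060001101b00130500080901031203010b02081802010f05050909000512000d050023020404050101040b0f00080e020300030501030204071b1908010301000010100007020201040009020100000b030e010d011c0911080d00020d0100020709020b01000205020904002905020005050b0002010808060d0106010101070f00020000040c000d1f020a060c010908011307000110121300020500000c230f10090100010009020000010f0f00040100020007000100030a0206002a000f000001080101010216040c00050301070c0103110016070300230d0a0601030e090b30160918010100010500030007010101030b0b010315060004000a012b000107020b0504010007060502040401021a050b010300010c0202030101000003070c03040001050b050204020100001002000401080113020403050c09001214041900001c08080106030400080b1401020516000c0808000000020a01090408000510000601000104030900010108030309050806100101050e010309000c0802041512000300040700000302000301060100010f0100050e00310104120004000101070a0100000c0006080f01011e0f02000007020301010102000104090806060600000103030205090505060800010703000d00001c1b010002030d11,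
    nat_lit 0x2030004000d020a02060e00000b0d0a031405020d05140400020601190102000903001d030601110202020b0f091c0005090206090006000026000104020300000100000a01000507080908000b0506010003060b0000020600020103020009010e07010a06070b000200000e03021a130d000111000d160200300101000c23040a0907010408020018102b01040a070916000a00480301040001000e070e100112170200010c0200]))

def sgC : List (List ℕ) := [[22,21],[17,22,20],[16,20],[22,17],[22,17,16,17],[16,22,17,22,16],[15,16,15,16,22,16]]

-- base [1776, 0, 2, 4]
def rtA : List (ℕ × List ℕ) := [(64,[17,16,15,17,18,14,13,14,18,15,16,17,19,14,15,16,15,17,18,14,16,15,14,18,14]),(256,[19,14,15,13,14,13,17,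
  16,15,16,18,14,15,17,16,17,15,14,18,16,15,14,13]),(4096,[13,16,17,14,13,18,14,15,14,13,15,18,14,19,14,15,18,
  14,19]),(576,[16,17,16,15,16,14,13,14,18,13,14,15,16,14,18,19,14,15,16,17]),(56,[13,14,15,16,18,14,15,17,16,
  17,15,14,18,16,15,16,17,13,14,19,14,15,16,13,14,15,18,19,16]),(2496,[14,19,15,16,14,17,15,16,15,14,19,17,16,
  15,14,18,16,15,14,13,14,18,13,14,15,16]),(167,[15,13,16,15,16,18,14,15,16,15,17,14,18,19,14,15,16,15,14,13])]

def csA : List ℕ := [268435512,64,41088,402653351,402784499,67109120,188736,82304,402661799,197120,201327168,268452472,67125888,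
  403440377,17344,403047533,91328,34240,402916857,402933299,67438272,403056365,67159808,206656,231296,403015783,
  67471552,406882611,406858087,335546816,268503544,256704,109312,402754361,67504960,201337728,268471224,
  402705465,142528,406867373,183744,67309248,67391232,402886445,159552,118656,403509235,134221824,268464184,
  135232,176256,403116199,403099891,71307520,61760,217472,403124647,70144,201364032,268513912,67408512,
  402715385,152512,402723949,226496,169408,402855417,402871859,67327680,402675437,67376896,79680,104320,
  406853735,67483840,402987315,403028327,335559104,268483064,129728,244480,402930489,67517248,201374592,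
  268450744,402766905,15552,402898349,56768,67174080,67149568,402956077,32576,253824,402694131]

def rtB : List (ℕ × List ℕ) := [(4,[16,19,14,18,17,15,16,15,14,19,18,15,14,13,16,14,13,14,18,15,14,18,17,15,16]),(32,[15,16,17,14,15,16,15,
  14,13,17,19,14,15,16,15,17,16,15,14,13,15,16,14,15,16,18]),(65,[14,18,17,15,16,14,18,17,15,16,15,14,19,18,17,
  15,14,13,16,15,14,18,16,15,16,15]),(66,[14,16,19,15,14,18,13,14,15,16,15,14,19,14,15,16,15,14,13,18,14,13,14,
  17,16]),(96,[16,18,17,15,14,19,18,14,15,16,17,15,16,15,14,19,18,13,14,18,17,15,16,17,16,15,16,15]),(132,[16,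
  18,14,17,13,14,15,13,16,15,14,17,13,15,16,15,14,13,18,14,13,14,17,16,15,16]),(258,[19,17,16,14,15,16,18,14,15,
  17,16,17,15,14,18,16,15,14,18,16,17]),(1025,[15,13,16,17,16,15,16,17,15,16,14,15,18,14,13,16,15,17,16,17,15,
  14,18,15,14,13,19,14,15,16,15,17,14,16,15,16]),(138,[14,16,15,16,13,14,15,13,14,15,16,17,15,16,15,14,19,18,13,
  14,15,18,14,13,14,16,13,15]),(148,[16,15,16,17,16,15,16,18,14,15,16,18,14,15,17,16,17,15,14,18,16,15,16,13,14,
  13,15,19,14,15,16,17,18]),(522,[18,13,14,15,16,15,14,19,14,18,17,15,16,14,18,17,15,16,15,14,16,13,15]),(1044,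
  [16,15,18,14,13,14,18,15,16,15,14,13,17,14,18,19,14,15,16,15,17,16,15,14,13,15,16,17]),(2561,[15,17,14,13,14,
  18,13,14,15,16,15,13,17,16,14,15,16,13,14,15,16,17,18,19,14,15,16,15,17,14,16,15,14,16,15,14]),(30,[13,14,18,
  15,14,19,13,14,15,16,17,15,16,15,14,19,16,14,17,15,16,15,14,13,18,14,15,16,17,15,14,18,16,15,14,18,17]),(230,
  [16,17,16,15,16,17,15,16,18,14,15,16,18,14,15,17,16,17,15,14,18,16,15,16,15,16,15,14,13,19,14,15,16,15,17,14,
  18,19])]

def csB : List ℕ := [4,134512651,134258709,68239384,872415262,67108896,134217793,201326658,469860447,268435552,738213996,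
  202637434,268492926,335544452,536871050,8336,603979924,4464808,536969394,335806652,335683792,138543317,
  940081374,939524326,402653442,67150086,805962005,335864104,75555134,494928193,536953162,537002354,201392514,
  268460422,754983316,268452248,201605562,805437909,872440294,201409026,671089162,285213216,738345516,209846842,
  75514456,83886688,402670210,470155915,335880848,939590302,956564134,344064708,536937162,2630352,90856,
  608191212,537527026,337707772,536945418,486802207,536920882,69231430,335831912,68166526,805323659,279484,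
  822084545,201343938,671613898,738337748,285246424,209863674,469763073,738198548,134489119,269485088,268575806,
  75531352,67175520,263292,201368712,135283851,940639390,940573862,352593064,201614512,402810096,138413313,
  336069892,608175380,75048,604054828,335938876,83912006,210773320,346039632,201483632,68216190,4195716,
  872457638,805455327,738248172,671122930,469837323,470844949,83920408,872465950,69207584,738330196,268568160,
  671131250,805316225,805504671,403318448,209741512,470099669,939804382,940312294,346302184,211035888,406980346,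
  68200198,201860872,807470859,343959312,209856304,402786106,75507518,335873860,138512223,305000,335857532,
  269772678,738592684,805349397,872450086,84028,209717314,739248212,201459834,478152833,402712712,536881290,
  536914098,68184262,805341397,335620328,69216510,411044098,336111888,134252821,940607774,956303654,336234820,
  402663752,545270090,604260692,537143666,335628668,150997377,209783170,470485407,738789804,201476538,138480075,
  138447317,67275224,874514910,67291616,805308929,201755138,285239814,671099402,739379732,211028538,806898251,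
  402754178,68266630,335948456,83946174,402680520,545327818,470026975,539233010,343952132,402696968,545278730,
  604080940,537013042,335842108,469830475,335571792,947931998,940198758,2624388,68193176,68209568,210275266,
  679488458,738298860,202673146,276835326,268545030,268536856,806407199,738462764,671353906,872434790,67284102,
  201731208,335703184,201600176,403328186,83897534,134745281,344083652,4205776,605031636,603999468,403336432,
  335826172,201452872,142626123,939601246,947916134,344010088,201502064,402804090,68177304,68275616,470822337,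
  746597844,134368735,19972,269504088,738225772,335564420,28304,134483615,419573424,335613628,67137222,
  201436872,805334731,344075984,201633520,69267198,201748232,470044437,948047646,940838694,344043304,210382640,
  806358849,805465951,738529172,671649714,269496254,470061003,470093781,69226456,872427486,75550688,69628,
  331780,142675979,134778901,83906584,872566814,75501600,139464769,201363522,470036575,276828256,746655852,
  201592954,285225086,346034308,538972298,340112,605040788,290984,537022642,346296508,344092880,134500565,
  939659486,940060902,402723074,75542790,822120725,336343336,67170622,470815041,537399626,537203058,201724290,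
  276853126,738726292,276844952,202117562,805867989,874582502,201740802,671109642,268489248,739512876,210047546,
  67129944,68227680,403182210,469791371,344601232,940872350,939578022,337777348,537268938,16790224,602856,
  604009196,536908530,344003324,536892170,469873439,536982322,67269446,344208232,67187582,805385099,4461500,
  806884289,201855938,671159242,755012564,285234136,210375674,470299649,747639828,135009311,269751328,268514366,
  67146840,68162656,300156,201340040,134247563,939930782,964695206,335852712,202126512,411186416,135271681,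
  336106756,603993364,111912,605099308,335648060,68252998,209728840,335557968,201520496,67237246,529796,
  872551846,805582303,739349996,671290866,469784075,469808661,68261400,872617502,67245600,738244180,268506720,
  679745138,805394049,805574303,406992560,210286280,469800661,939562718,948180710,335820520,209991408,403314426,
  67221254,201357064,805377803,352335632,210057008,419567418,67123006,344594244,151263071,276328,336336764,
  269514630,746608556,806393877,872814630,596028,210769986,738211924,201496698,469776513,411056264,538982538,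
  537540786,67205318,807442645,335984872,67254526,402708738,336083216,134363413,939571486,940587302,335698244,
  402733384,545790282,620763476,537663858,344037756,138426753,201447810,471079327,738498988,201513402,134240715,
  134355413,69245400,889199070,69261792,807410177,201431554,285260294,671119882,738236948,209984058,805902923,
  402692738,83933830,335657640,68287166,403192520,545659594,469818079,537139954,352328452,402766600,536902410,
  604052268,537156402,352590652,470588235,343948112,939555678,939793254,16784260,67214232,67230624,209738690,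
  671390666,738474988,201628666,268450814,268532742,268524568,805411871,738311212,671235122,873503846,69254278,
  201407624,336247952,202652848,402824378,68238526,134233281,335682756,539856,604118228,604282092,402832624,
  344202492,209796424,134290763,939547998,939539814,337722728,201473392,411180410,67198360,83942816,486546881,
  754982356,134323679,8396292,269770328,738270828,343940740,8404624,134274719,402800304,335978172,75529926,
  201768648,805707467,337788624,202686192,67305214,201424648,470425365,940187422,939630374,335642408,209878832,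
  808460097,805363551,739532692,671227826,269762494,469999563,469901269,67264472,873471966,67166176,106492]

def FB : List ℕ := [1408,1409,1410,1411,1412,1413,1414,1415,1416,1417,1418,1419,1420,1421,1422,1423,1676,1677,1678,1679,1688,
  1689,1690,1691,1692,1693,1694,1695,1708,1709,1710,1711,1770,1771,1772,1773,1776,1777,1778,1779,1780,1781]

def k7 : List ℕ := [15,18,19,14]

def cwQ : ℕ := (nat_lit 0x818384490080c040424848c0602021282028b0101010121018080808080a0c0c942e040406030a01040203010109010101)

def l2 : List ℕ := [0,1,2,3,4,5,6,7,8,9,10,11,12]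

def lQ : List ℕ := [6,7,8,9,10,11,12]

def lC : List ℕ := [15,16,17,18,19,20,21,22]

variable {Γ : Type*} [Group Γ] {φ : Γ →* Perm ℕ} {y : ℕ → Γ}

theorem ya : yS y 12 = y 0 := mul_one _

theorem yl {i : ℕ} (hi : i < 7) : yS y (13 + i) = y i := by
  have : ∀ i < 7, nthL [] TS.us (13 + i) = [i] := by decide
  rw [yS, this i hi, W_cons, W_nil, mul_one]

variable (M : Md φ y)
include M

theorem memC {i : ℕ} (hi : i ∈ l2 ++ lC ++ [23, 24, 25, 26]) : yS y i ∈ centralizer {y 0} := by
  have := (mS M).eq (allL_iff.1 (show allL (l2 ++ lC ++ [23, 24, 25, 26]) (fun i => eqB acS BS [i, 12] [12, i]) = true by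
    decide +kernel) i hi)
  simpa [ya, mem_centralizer_singleton_iff] using this

theorem lC_le : Spor.genL (yS y) lC ≤ centralizer {y 0} := Spor.genL_le fun _ hi => memC M (by simp [hi])

theorem up : Nat.card (centralizer {y 0}) ≤ 54 * 61440 := by
  haveI := M.finite
  have h0 : ∀ g ∈ centralizer {y 0}, ∀ p < 1782, φ (W (yS y) [12]) p = p → φ (W (yS y) [12]) (φ g p) = φ g p :=
    fun g hg p _ h => by
      have := fix_conj (g := g) h
      rwa [W_cons, W_nil, mul_one, ya, mem_centralizer_singleton_iff.1 hg, mul_inv_cancel_right, ← ya (y := y),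
        ← mul_one (yS y 12)]
        at this
  refine card_step (φ := φ) _ 1776 F (fun g hg => fix_mem' (mS M) (w := [12]) (by decide +kernel) (M.lt g (by decide))
    (h0 g hg _ (by decide) (fix_of (mS M) (by decide +kernel)))) ?_
  refine set_step (mS M) (K := fixB φ [1776]) [[18], [28]] (List.forall_mem_cons.2 ⟨List.forall_mem_singleton.2
    (fix_of (mS M) (by decide +kernel)), List.forall_mem_singleton.2 (List.forall_mem_singleton.2
    (fix_of (mS M) (by decide +kernel)))⟩) (r := 54) (a := aF) (b := 4095) hF (fx1 M) inf_le_right (fun g hg i hi => ?_)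
    (by decide +kernel)
  have h1 := allLt_iff.1 (show allLt 54 (fun i => band (Nat.blt (get 11 2047 aF i) 1782)
    (Nat.beq (actW acS [12] (get 11 2047 aF i)) (get 11 2047 aF i))) = true by decide +kernel) i hi
  have h2 : get 11 2047 aF i < 1782 := by rw [band_eq, Bool.and_eq_true, nblt] at h1; exact h1.1
  obtain ⟨j, hj, e⟩ := fix_pack (mS M) (w := [12]) (r := 54) (a := aF) (by decide +kernel) (M.lt g h2)
    (h0 g hg.1 _ h2 (fix_of (mS M) h1))
  exact ⟨j, hj, e.symm⟩

theorem low : 3317760 ≤ Nat.card (Spor.genL (yS y) lC) :=
  le_card_sub (mS M) sgC (fun w hw => W_mem _ fun a ha => Spor.mem_genL _ (by revert a w; decide)) [1776, 0, 2, 4] 1025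
    (by decide +kernel)

theorem cent : centralizer {y 0} = Spor.genL (yS y) lC :=
  haveI := M.finite
  (eq_of_le_of_card_ge (lC_le M) ((up M).trans (low M))).symm

theorem card_C : Nat.card (centralizer {y 0}) = 3317760 := le_antisymm (up M) (cent M ▸ low M)

theorem pc2 : pcOK (eqB acS BS) 2 (fun s u => get 13 8191 cw2 (Nat.add (Nat.mul 13 s) u)) l2 = true := by decide +kernel

theorem memS : ∀ g ∈ Spor.genL (yS y) l2, ∃ e < 8192, g = W (yS y) (wd 2 l2 e) :=
  haveI := M.finite
  pc_mem (fun _ _ => (mS M).eq) two_pos l2 (pc2 M)

theorem card_S : Nat.card (Spor.genL (yS y) l2) = 2 ^ 13 := le_antisymm (card_le_of_enum (memS M))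
  (le_card_sub (mS M) [[0],[1],[2],[6],[5,10,12],[4,7,10,11,12]] (fun w hw => W_mem _ fun a ha => Spor.mem_genL _
    (by revert a w; decide)) [0, 8] 1025 (by decide +kernel))

theorem cjA : ∀ c ∈ csA, IsConj (y 0) (W (yS y) (wd 2 l2 (c % 8192))) := by
  simpa [ya] using cj_of (mS M) (x := [12]) (rt := rtA) (cs := csA) (by decide +kernel)

theorem cjB : ∀ c ∈ csB, IsConj (y 4) (W (yS y) (wd 2 l2 (c % 8192))) := by
  simpa [yl (i := 4)] using cj_of (mS M) (x := [17]) (rt := rtB) (cs := csB) (by decide +kernel)

theorem nc : ¬ IsConj (y 0) (y 4) := by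
  simpa [ya, yl (i := 4)] using not_conj (mS M) (u := [12]) (v := [17]) (l := F) (l' := FB) (by decide +kernel)
    (by decide +kernel)

theorem invS {g : Γ} (hg : g ∈ Spor.genL (yS y) l2) (h : g * g = 1) :
    g = 1 ∨ ∃ c ∈ csA ++ csB, g = W (yS y) (wd 2 l2 (c % 8192)) := by
  obtain ⟨e, he, rfl⟩ := memS M g hg
  have k : force (maskL (mapL (fun c => Nat.mod c 8192) (appendL csA csB)) 1) (fun m => allLt 8192 fun e =>
      bif' (Nat.beq (force (actW acS (wd 2 l2 e) 0) (actW acS (wd 2 l2 e))) 0) (tb m e) true) = true := by
    decide +kernel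
  rw [force_eq] at k
  have k1 := allLt_iff.1 k e he
  rw [force_eq, ← (mS M).applyW _ (show 0 < 1782 by decide), ← (mS M).applyW _ (M.lt _ (by decide)), ← Perm.mul_apply,
    ← map_mul, h,
    map_one, Perm.one_apply, Nat.beq_refl, bif'_true, tb_eq] at k1
  rcases maskL_spec _ _ _ k1 with h1 | h1
  · rw [Nat.testBit_one_eq_true_iff_self_eq_zero.1 h1]; exact Or.inl (wd_zero _ _)
  · rw [mapL_eq, appendL_eq] at h1
    obtain ⟨c, hc, rfl⟩ := List.mem_map.1 h1
    exact Or.inr ⟨c, hc, rfl⟩

theorem inv_cl {w : Γ} (h : w * w = 1) : w = 1 ∨ IsConj (y 0) w ∨ IsConj (y 4) w := by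
  haveI := M.finite
  obtain ⟨g, -, hg⟩ := exists_conj_mem_sylow (K := ⊤) (j := 1) Nat.prime_two le_top (card_S M) (card_top.trans M.card)
    (by norm_num) (mem_top w) (by simpa [sq] using h)
  have hc : IsConj (g * w * g⁻¹) w := (isConj_iff.2 ⟨g, rfl⟩).symm
  rcases invS M hg (by rw [conj_mul, h]; simp) with e | ⟨c, hc', e⟩
  · exact Or.inl (by simpa using e)
  · rw [e] at hc
    exact Or.inr ((List.mem_append.1 hc').imp (fun h => (cjA M c h).trans hc) fun h => (cjB M c h).trans hc)

theorem ex7 : ∃ k : Γ, orderOf k = 7 ∧ Commute k (y 4) :=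
  ⟨W (yS y) k7, ord_of (mS M) (a := 0) (by norm_num) (by decide +kernel), by
    simpa [yl (i := 4), Commute, SemiconjBy] using eq_app (mS M) (a := k7) (b := [17]) (c := [17]) (d := k7) (by decide +kernel)⟩

theorem a_sq : y 0 * y 0 = 1 := by simpa using M.eq (u := [0, 0]) (v := []) (by decide +kernel)

theorem a_ne : y 0 ≠ 1 := by simpa using ne_of M (u := [0]) (v := []) (b := 0) (by decide +kernel)

theorem prod {w : Γ} (h1 : Commute w (y 0)) (h2 : IsConj (y 0) w) (h3 : w ≠ y 0) : IsConj (y 0) (y 0 * w) := by
  haveI := M.finite
  have h : w * w = 1 := by obtain ⟨g, rfl⟩ := isConj_iff.1 h2; rw [conj_mul, a_sq M]; simp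
  obtain ⟨g, hg', hg⟩ := exists_conj_mem_sylow (K := centralizer {y 0}) (j := 1) Nat.prime_two
    (Spor.genL_le fun _ hi => memC M (by simp [hi])) (card_S M) (card_C M) (by norm_num)
    (mem_centralizer_singleton_iff.2 h1) (by simpa [sq] using h)
  have hc : IsConj w (g * w * g⁻¹) := isConj_iff.2 ⟨g, rfl⟩
  have ha : g * y 0 * g⁻¹ = y 0 := mul_inv_eq_iff_eq_mul.2 (mem_centralizer_singleton_iff.1 hg')
  rcases invS M hg (by rw [conj_mul, h]; simp) with e | ⟨c, hc', e⟩
  · rw [e] at hc; exact absurd (isConj_one_left.1 (h2.trans hc)) (a_ne M)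
  rcases List.mem_append.1 hc' with hc' | hc'
  · have k := allL_iff.1 (show allL csA (fun c => bor (Nat.beq (Nat.mod c 8192) 4096) (anyL csA fun d =>
      band (Nat.beq (Nat.xor (Nat.mod c 8192) (Nat.mod d 8192)) 4096)
        (eqB acS BS (appendL [12] (wd 2 l2 (Nat.mod c 8192))) (appendL (wd 2 l2 (Nat.mod d 8192)) [])))) = true by
      decide +kernel) c hc'
    rw [bor_eq, Bool.or_eq_true, nbeq, anyL_iff] at k
    rcases k with k | ⟨d, hd, k⟩
    · rw [show c % 8192 = 4096 from k, show W (yS y) (wd 2 l2 4096) = y 0 from (mul_one _).trans ya, ← ha] at e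
      exact absurd (by simpa using e) h3
    · rw [band_eq, Bool.and_eq_true] at k
      have k1 := eq_app (mS M) k.2
      rw [W_cons, W_nil, mul_one, mul_one, ya] at k1
      refine (cjA M d hd).trans (isConj_iff.2 ⟨g⁻¹, ?_⟩)
      rw [show W (yS y) (wd 2 l2 (d % 8192)) = _ from k1.symm, show W (yS y) (wd 2 l2 (Nat.mod c 8192)) = _ from e.symm]
      calc _ = g⁻¹ * (g * y 0 * g⁻¹ * (g * w * g⁻¹)) * g⁻¹⁻¹ := by rw [ha]
        _ = _ := by group
  · exact absurd ((h2.trans hc).trans (e ▸ cjB M c hc').symm) (nc M)

theorem memQ : ∀ g ∈ Spor.genL (yS y) lQ, ∃ e < 128, g = W (yS y) (wd 2 lQ e) :=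
  haveI := M.finite
  pc_mem (fun _ _ => (mS M).eq) two_pos lQ
    (show pcOK (eqB acS BS) 2 (fun s u => get 13 8191 cw2 (Nat.add (Nat.mul 13 s) u)) lQ = true by decide +kernel)

theorem card_Q : Nat.card (Spor.genL (yS y) lQ) = 2 ^ 7 := le_antisymm (card_le_of_enum (memQ M))
  (le_card_sub (mS M) [[6],[7],[8],[9],[10],[11]] (fun w hw => W_mem _ fun a ha => Spor.mem_genL _
    (by revert a w; decide)) [0, 8] 65 (by decide +kernel))

theorem Q_le : Spor.genL (yS y) lQ ≤ centralizer {y 0} :=
  Spor.genL_le fun i hi => memC M (by revert i; decide)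

theorem norm_Q : centralizer {y 0} ≤ normalizer (Spor.genL (yS y) lQ : Set Γ) := by
  haveI := M.finite
  rw [cent M]
  refine Spor.genL_le fun i hi => mem_normalizer_closure ?_
  rintro _ ⟨j, hj, rfl⟩
  have := eq_app (mS M) (allL_iff.1 (allL_iff.1 (show allL lC (fun i => allL lQ fun j => eqB acS BS (appendL [i] [j])
    (appendL (wd 2 lQ (get 7 127 cwQ (Nat.add (Nat.mul 7 (Nat.sub i 15)) (Nat.sub j 6)))) [i])) = true by
      decide +kernel) i hi) j hj)
  simp only [W_cons, W_nil, mul_one] at this
  rw [this, mul_inv_cancel_right]
  exact wd_mem _ (fun u hu => Spor.mem_genL _ hu) _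

end G1

theorem Ty {i : ℕ} (hi : i < 7) : T.y i = Spor.SuzM.g i := by
  have e : ∀ i < 7, nthL [0] T.wds i = [i] := by decide
  have h := mdl.eq (allLt_iff.1 (show allLt 7 (fun i => eqB act BS [i, i] []) = true by decide +kernel) i hi)
  rw [W_cons, W_cons, W_nil, mul_one] at h
  rw [← inv_eq_of_mul_eq_one_right h, T.y, e i hi]; simp

theorem card_cent_a0 : Nat.card (centralizer {Spor.SuzM.g 0}) = 3317760 := Ty (i := 0) (by decide) ▸ G1.card_C mdl

theorem inv_classes (w : Spor.Suz) (h : w * w = 1) : w = 1 ∨ IsConj (Spor.SuzM.g 0) w ∨ IsConj (Spor.SuzM.g 4) w :=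
  Ty (i := 0) (by decide) ▸ Ty (i := 4) (by decide) ▸ G1.inv_cl mdl h

theorem ex7 : ∃ k : Spor.Suz, orderOf k = 7 ∧ Commute k (Spor.SuzM.g 4) := Ty (i := 4) (by decide) ▸ G1.ex7 mdl

theorem not_conj_ae : ¬ IsConj (Spor.SuzM.g 0) (Spor.SuzM.g 4) :=
  Ty (i := 0) (by decide) ▸ Ty (i := 4) (by decide) ▸ G1.nc mdl

theorem prod_a0 (w : Spor.Suz) (h1 : Commute w (Spor.SuzM.g 0)) (h2 : IsConj (Spor.SuzM.g 0) w)
    (h3 : w ≠ Spor.SuzM.g 0) : IsConj (Spor.SuzM.g 0) (Spor.SuzM.g 0 * w) := by
  rw [← Ty (i := 0) (by decide)] at h1 h2 h3 ⊢; exact G1.prod mdl h1 h2 h3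

theorem W_eq_ev {w : List ℕ} (h : ∀ i ∈ w, i < 7) : W T.y w = Spor.ev Spor.SuzM.g w.reverse := by
  induction w with
  | nil => rfl
  | cons i w ih =>
    rw [W_cons, ih fun j hj => h j (List.mem_cons_of_mem _ hj), Ty (h i List.mem_cons_self), List.reverse_cons,
      Spor.ev_append]
    simp

/-- generators of the centraliser of `a`. -/
def wC : List (List ℕ) :=
  [[2],[3],[4],[5],[6],[1,2,5,1,0,1,5,2,1],[1,2,6,1,0,1,6,2,1],[1,0,1,2,3,2,1,0,3,2,3,1,2,0,1]]

theorem cent_a0 : centralizer {Spor.SuzM.g 0} = Spor.genW Spor.SuzM.g wC := by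
  rw [← Ty (i := 0) (by decide), G1.cent mdl, Spor.genL, Spor.genW]
  congr 1
  ext g
  have k : ∀ i ∈ G1.lC, (∀ j ∈ nthL [] TS.us i, j < 7) ∧ (nthL [] TS.us i).reverse ∈ wC := by decide
  have k' : ∀ w ∈ wC, ∃ i ∈ G1.lC, (nthL [] TS.us i).reverse = w := by decide
  refine ⟨?_, ?_⟩
  · rintro ⟨i, hi, rfl⟩; exact ⟨_, (k i hi).2, (W_eq_ev (k i hi).1).symm⟩
  · rintro ⟨w, hw, rfl⟩
    obtain ⟨i, hi, rfl⟩ := k' w hw
    exact ⟨i, hi, W_eq_ev (k i hi).1⟩

end Cfsg.Agent.SuzR
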