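import Cfsg.Agent.SuzR.R0

/-! Subgroups of index 416 of `G₂(4)`: `conjK` (generated certificate, helper20). -/

set_option autoImplicit false
set_option maxRecDepth 100000
set_option exponentiation.threshold 100000

namespace Cfsg.Agent.SuzR

open Cfsg.Agent.Comp Cfsg.Agent.Known Subgroup Equiv Cfsg.Agent.Known.Mdl MulAction

theorem card_le_of_conj {Γ : Type*} [Group Γ] [Finite Γ] (K : Subgroup Γ) (s : Γ) {f : ℕ → Γ} {n : ℕ}
    (h : ∀ k ∈ K, ∃ e < n, k * s * k⁻¹ = f e) : Nat.card K ≤ n * Nat.card ↥(K ⊓ centralizer {s}) := by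
  let I : MulAction Γ Γ := MulAction.compHom Γ (MulAut.conj (G := Γ))
  have e : @stabilizer Γ Γ _ I s = centralizer {s} := by
    ext g; rw [mem_centralizer_singleton_iff, ← mul_inv_eq_iff_eq_mul]; rfl
  rw [@card_eq_ncard_orbit_mul Γ Γ _ I K s, e]
  refine Nat.mul_le_mul_right _ ((Set.ncard_le_ncard (t := f '' Set.Iio n) ?_ (Set.toFinite _)).trans
    ((Set.ncard_image_le (Set.finite_Iio n)).trans (by simp)))
  rintro _ ⟨k, rfl⟩
  obtain ⟨e, he, h1⟩ := h k k.2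
  exact ⟨e, he, h1.symm⟩

theorem exists_conj_mem {Γ : Type*} [Group Γ] [Finite Γ] {H R J : Subgroup Γ} (hR : R ≤ H) (hJ : J ≤ H) {n : ℕ}
    (hn : Nat.card H = n * Nat.card J) (h : ¬ Nat.card R ∣ n) : ∃ r ∈ R, r ≠ 1 ∧ ∃ g ∈ H, g⁻¹ * r * g ∈ J := by
  by_contra hc
  push Not at hc
  have e := Nat.card_congr (MulAction.selfEquivOrbitsQuotientProd (G := R.subgroupOf H) (X := H ⧸ J.subgroupOf H) fun x => by
    obtain ⟨g, rfl⟩ := QuotientGroup.mk_surjective x
    refine eq_bot_iff.2 fun r hr => mem_bot.2 (by_contra fun h1 => hc r.1.1 r.2 (fun h2 => h1 (Subtype.ext (Subtype.ext h2)))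
      g g.2 ?_)
    have := mem_subgroupOf.1 (QuotientGroup.eq.1 (show ((r.1 * g : H) : H ⧸ J.subgroupOf H) = g from hr).symm)
    simpa [mul_assoc] using this)
  have e2 := card_eq_card_quotient_mul_card_subgroup (J.subgroupOf H)
  rw [Nat.card_congr (subgroupOfEquivOfLe hJ).toEquiv, hn, e, Nat.card_prod,
    Nat.card_congr (subgroupOfEquivOfLe hR).toEquiv] at e2
  exact h (Dvd.intro_left _ (Nat.eq_of_mul_eq_mul_right Nat.card_pos e2).symm)

namespace R1

noncomputable def cwR : ℕ := (nat_lit 0x1000000000000000000400000100000000000000120000000000000000080000020000000000000064b0000000000000001000000400000000000000c105000000000000002000000800000000000000000000000000000000000000000000000000000000000000000000000000000000000000000000000000000000000000000000000000000000000000000000000000000000000000000000000000000000000000000000000000000000000000000000000000000000000000000000000000000000000000000000000000000000000000000000000000000000000000000000000000000000000000000000000000000000000000000000000000000000000000000000000000000000000000000000000000000000000000000000000000000000000000000000000000000000000000000000000000000000000000000000000000000000000000000000000000000000000000000000000000000000000000000000000000000000000000000000000000000000000000000000000000000000000000000000000000000000000000000000000002000000)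

def sgP : List (List ℕ) := [[18,18,18,21,19,4,21,21],[22,22,22,22,22,18],[4,3,4],[21]]

-- base [1664, 0, 2, 4] max 768
noncomputable def ctab : ℕ := (Spor.joinL 4096 [nat_lit 0x3950781f7c7f47ca7261a6a4beeb291a341b46691003d08088ccf8dc94118128c90606cd6184f042c304541a834a27c5aa14602bce7a4ea94d27246497a5f09d975649969122857d7a2d0d631f56daaf59d1aa14a10c708bc1743541d0a200000000000000000000000000000000000000000000a54bb27f3b5974d4d852904320f06999434037823211000000000000000000000000000000000000000000001ec564ab12c2c2520a51ca0c6190891132664d0bd97c83f3cd77b2149922e4c45817a870c88a414668d070be1e295e311242c90b99a1cf4ec0f86cc1980c3601fa78a2d3f576b9f964c25aa28b4e667113417806874cc27b0000000000000000000000000000000000000000000000000000000000000000000000000000000000000000256640980f73923f4279622b04c4c795728e1407e1460c25cce211026c38c8a9791f41d43c1282c01a4339cb712cb6143ce77713d2038b0886550c0e01ac848d20393e4f35c2be97dce29db9dc8306590fa724ee890cf402000000000000000000000000000000000000000000002225d8e30602f43988b9350621246502e0403381a0222e8714bb9c31c84587111409005c0a8cb1a401804835252630978f93983f82715f05e3145603004626c5881f0ec4b8c68770ca1347f86619831c5784706c2605a0d1156128648c616033c1989715c0600c8c816601c04099,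
    nat_lit 0x2b8782a46046c8d22d84f43772f4096bbc478ac7db439649c3d492c5b8385a0e8324a4d43570bb197cc55aea9950664d0d41081e840d0a84000000000000000000000000000000000000000000000000000000000000000000000000000000000000000073a46c753c677c76cb9390a22e7a8bae5622a3e59b59000000000000000000000000000000000000000000004e2510c422b45c1488125d26ec65b31800bf4256e90a9acf6d00587a7cdecdcd726e21bc389b37cc1ac36a0a0000000000000000000000000000000000000000000060ecf1604f193eb0da0c9188a66d114788ec884ccc47000000000000000000000000000000000000000000002ff3094e93821d489d405b9c8f31c32fa900e39dc4a7a5a5b4e9bb29703b4902928d029861c388762e04e46d40735ec33dd3794feb8b7d8e60b4154428940901347b0000000000000000000000000000000000000000000047ed456aa694c0b1da2a3354829c6154aa8e2e4502a745ab159fa594e0cf95f227ac0e21e7d2eaf2ee9c64ca664bc27942b8cb2664525454b19e1a549a910ea372a68023a48e1eb3c65c4ebbf48f30593a4448869ea024750000000000000000000000000000000000000000000076d455d05295232c5464b98527c5f532c482fc8eec4e7b47fdee2016fe6f5be1ba87c04409c728f803407c4992c48c794a29d2738b2b025f6fb4f9ce,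
    nat_lit 0x93d212d7d898585fb09997ce695490e28c8268e17885aca5a44ecc0b4f4094cab0bdf36b33abd3775d14b1d9d136b92dd49b0eadb3d978d3bb152264d4db95ae61e1c875f0f05cacf78ba7e5e924f66e6b9b7433312ce21914320717929851aec48878542afc754b5cd200000000000000000000000000000000000000000000956de4dc4815f2f8503ce54b917d2922f454ce618a6d41364670be736559e9a372050a220982705901d3f82b3bc6d9bb3f17d6815f19f06d52125831d5b33e57b50546d4116d2654c8c71b5a3752e474744bb75e760b8528705481d51bf7ab3014d1fe8180ec6a28250a3742140e71eb82873bf794d858b39999eed295d81a88a525b5743a54517396923ec3dad8ee6a0d958d2d1596b728534600000000000000000000000000000000000000000000a6a1cc395669c41a8375908151c61fa7c50d1223ec1530eafd9e945202d01620535cd3f1775106b4c21aab10b096166c4d4adf5c2a054135e540a9375416530a73e5988b51a929ba3ed11643ab6849422e2c25830bd9b33b628ff8f735ea18795fbae287a69d0bc6b8d484cd34363d8e71e3c007eaef5c89e29da62ca0b069244002a49e2728f53597e0b89791a90d94695a31c955fd0b5984e8ac47d1f6531af6fc0efccd21039c8c85930c5bcec93e4b4f40fb22c450db0d5a6f9d70799130092692e2cca5484de8dbc4d84af89033,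
    nat_lit 0x702500000000000000000000000c471cba90f26446072978000000000000000000000000000000000000000000002aa1d0a48680640581080a1be0e06b84543c67512997000000000000000000000031c4b47d84c1882b44d0b22b6568ae95c0fe0100188103c2083f01c0360140101a692a8a62ad0598e968eb4d53efe8f54c874e7a5fdd1b471222562634cd3e17ba3a3fad3969bd637cb25a43837b2d8d8b9fa702b7e839c097ae69e4a95a4af01c9bad48ee8e8d455844a8263b26542916294c67490819451e3a35ba9d16724d62e6d0f451d51abbcb4745346bfd18708174861c27ae4e8be9fc97841c2d296a486149fbae70ef81043cb772de0da38d6183bc8f356a005a8eb2ea3b543d7216e234c49b00eb2ccbca7a9cd1e726e469276369a11db64a0c8c930adba78cc61656c9b91912ad897c9382c6a0c6e94ceb41b029763a6f94f2a95a69b9532087e1e98553146b5b7942b19169254d9ad4c8e0ed397425b0ea51951a3b090cb5a032ba432d863cbd27db69a10ea690ade630a7a60b62b04bae7fcd3aead5d85d43000000000000000000000000000000000000000000004fa0400a40982203005a8a5011063a40b8291ea25a87000000000000000000000000000000000000000000005ff5ae9c4ec9496226ec940acf21cd906280e49de18420a7b5ff857306fd8f093c46123e50a5b4dd3bd82229304b8e85,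
    nat_lit 0x3e95e10007400800000000000000000000000059cfe0f3b4b0000000000041afa0d8b73000000000008e11022647ea38a8e64ba600000000000000000000000000000000000000000000000000000008acc9e10a46000000000000000000000000000000000000000000000000000000000000000000000000000000000000000000000000000000000000000f21e83d87c000000000001f04a8b19c819a12c1b8d03cccaa11bf97f9151241e8462705c02624d87edec23c698ca6122cd59f14d24b4a000000000000000000000000000000000000000000006e0c16771ac7a9276471f7b00ba6894d0af0d6186d45b06f79014d5ae6df8ddd3d00000000000000000000005307bdfecbf760fccf252700000000000000000000000831de230db5506a50ad4b4cee51e123981a2845da81b1f37ab2d3651304a0427e86b0e637c6632468907a1b9075f2664a99cf58e982fc95ebd67d48517e2745b8aa8af1852c24d64acce1541ba06d9d902d68350153ca75000000000000000000000000000000000000000000000e05443614d0240a40])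

def reps : List ℕ := [1777,1408,9,1428,27,1413,8,11,13,57,1429,56,1430,144,40,1472,229,312,60,104,316,225,472,121,476,100,200,487,
  314,1516,237,866,236,313,282,762,109,662,105,766,108,96,1520,453,748,1548,368,233,410,464,372,870,414,468,483,
  471,467]

def tws : List (List ℕ) := [[],[1],[9],[10],[10,1],[16,1],[0,9],[2,9],[4,9],[10,9],[0,10],[3,10],[4,10],[9,10],[5,9,1],[10,9,1],[9,4,9],
  [10,4,9],[4,3,10],[3,4,10],[9,4,10],[9,4,9,1],[10,4,9,1],[3,4,10,1],[9,4,10,1],[9,4,0,9],[10,4,0,9],[9,4,2,9],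
  [10,4,2,9],[10,5,4,9],[5,9,4,9],[10,9,4,9],[16,9,4,9],[0,10,4,9],[3,10,4,9],[9,10,4,9],[3,4,10,9],[9,4,10,9],
  [3,4,0,10],[9,4,0,10],[3,4,3,10],[5,3,4,10],[9,3,4,10],[9,5,4,10],[3,9,4,10],[9,16,4,10],[3,4,9,10],[5,9,4,9,
  1],[3,10,4,9,1],[5,10,4,9,1],[3,4,10,9,1],[9,4,10,9,1],[9,4,3,10,1],[5,9,4,10,1],[4,9,4,2,9],[16,9,4,9,10],
  [16,10,4,2,9,1]]

def cls : List (ℕ × List ℕ × ℕ) := [(2,[2],0),(1,[0,2,1,2],0),(1,[1,2],0),(2,[0,0,0,0,2,0,0,0,0,2,0,0,0,0,0,0,0,0],0),(1,[1,1,2],0),(1,[0,0,1,2,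
  1,2],0),(2,[1,2,1,1,1,1,1,1,1,1,0,0,0,0,2,0,0,1,1,2,1,2,0,2,0,2,1],0),(1,[1,2],0),(1,[0,0,0,0,1,2],0),(1,[0,1,
  1,2],0),(1,[0,0,0,0,1,2],0),(1,[1,1,2],0),(1,[1,2],0),(1,[0,2,1,1,2],0),(1,[0,0,0,2,1,2],0),(0,[],0),(0,[],0),
  (0,[],0),(2,[0,0,2,0,1,1,1,1,1,1,1,1,2,1,2,1,1,1,1,1,1,1,1,1,1,1,1,2,0,2,1,2,0,1,1,1,1,2,1,2,0,2,1,1,1,1,1,1,
  1,1,2,1,0,0,0,0,2,1,1,1,1,0],0),(1,[0,1,1,2],0),(1,[0,0,2,1,1,2],0),(2,[0,2,0,0,0,0,2,0,0,0,2,0,0,0,0,2,0,0,2,
  0,2,0],0),(1,[1,1,2],0),(1,[0,0,0,2,1,2],0),(2,[0,1,1,1,1,2,1,1,1,1,1,1,1,1,2,0,2,0,0,2,1,2,1,1,1,1,2,1,1,1,1,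
  0,2,0,0,0,0,0,0,0,0,2,1,1,1,1,0,0,2,1,1,1,1,0,2,0,0,0,0,0,0,0,0,2,1,1,1,1,0,2,1,1,1,1,0,0,0,0],0),(1,[0,2,1,
  2],0),(1,[0,0,2,1,2],0),(1,[0,1,2],0),(1,[1,2],0),(1,[0,0,1,1,2],0),(1,[1,1,2],0),(1,[0,1,2,0,2],0),(1,[0,1,1,
  2],0),(1,[0,0,1,2],0),(1,[0,0,1,2],0),(1,[0,1,1,1,2],0),(1,[1,1,2],0),(1,[0,1,2,0,2],0),(1,[0,1,1,2],0),(1,[0,
  1,2],0),(1,[0,0,1,1,2],0),(1,[0,1,2],0),(1,[0,0,1,2],0),(1,[0,0,1,2],0),(1,[0,1,1,1,2],0),(1,[1,1,2],0),(1,[0,
  1,1,2],0),(1,[0,0,0,0,1,2],0),(2,[2,1,0,0,0,0,1,2,1,1,2,1,1,1,1,0,0,0,0,0,0,0,0,2,0,0,1,2,1,1,1,1,1,1,1,1,1,1,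
  1,1,2,0,0,0,0,1,2,1,1,1,1,2,1,1,1,1,2],0),(1,[1,2],0),(1,[0,1,1,2],0),(1,[1,2],0),(1,[0,0,0,1,2],0),(1,[0,0,0,
  1,1,2],0),(1,[0,1,2],0),(1,[1,2],0),(1,[0,0,1,1,2],0),(1,[1,2],0),(1,[0,0,0,0,1,2],0),(1,[0,1,1,2],0),(1,[0,0,
  0,1,2],0),(1,[1,2],0),(1,[0,0,2,1,2],0),(2,[0,2,1,1,1,1,1,1,1,1,2,0,1,2,0,0,0,0,2,1,1,1,1,2,1,1,1,1,1,1,1,1,2,
  1,1,1,1,2,0,0,2,1,1,2,1,1,1,1,0,0,2,0,1,1],0),(1,[0,2,1,2],0),(1,[1,1,2],0),(1,[0,0,2],0),(1,[0,2],0),(1,[0,
  2],0),(1,[0,0,1,1,2],0),(1,[1,2],0),(1,[0,1,2],0),(1,[0,0,2],0),(1,[0,2],0),(1,[0,2],0),(2,[0,0,1,1,1,1,2,0,0,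
  0,0,2,0,0,0,0,2,1,1,1,1,2,1,0,0,1,1,2,0,1,1,1,1,2,0,2,1,1,0,2,0,0,0,0,1,1,1,1,2,0,0,0,0,0,0,0,0,2,1,1,1,1,1,1,
  1,1,0,0,0,0],0),(1,[0,0,0,1,1,2],0),(1,[0,1,1,2],0),(1,[0,1,1,1,2],0),(1,[0,0,1,2],0),(1,[0,0,1,2],0),(0,[],
  0),(0,[],0),(0,[],0),(1,[0,0,0,2,0,1,2],0),(1,[0,0,1,1,2,0,2],0),(1,[1,2],0),(1,[0,0,2],0),(1,[0,2],0),(1,[0,
  2],0),(1,[0,2],0),(1,[0,0,2],0),(1,[0,2],0),(1,[0,2],0),(1,[0,2],0),(1,[0,0,2],0),(1,[1,2],0),(1,[0,1,2],0),
  (1,[0,0,1,1,2],0),(1,[0,2,1,2],0),(1,[0,0,2,1,1,2],0),(1,[0,1,1,2],0),(1,[0,2],0),(1,[0,2],0),(1,[0,0,2],0),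
  (1,[1,2],0),(1,[0,0,2,1,2],0),(1,[0,0,0,1,2],0),(1,[0,0,2],0),(1,[0,2],0),(1,[0,2],0),(1,[0,1,2],0),(1,[0,1,
  2],0),(1,[0,0,1,1,2],0),(1,[0,2],0),(1,[0,0,2],0),(1,[0,2],0),(1,[1,2],0),(1,[0,0,0,1,2],0),(1,[0,0,0,1,1,2],
  0),(1,[0,1,1,2],0),(1,[0,0,0,0,1,2],0),(1,[1,2],0),(2,[1,1,1,1,2,1,0,0,0,0,2,0,0,0,0,1,1,2,0,2,0,0,1,1,1,1,2,
  1,1,2,0,0,0,0,0,0,0,0],0),(1,[0,1,2,1,2],0),(1,[1,1,2],0),(1,[0,0,1,2],0),(1,[0,0,1,2],0),(1,[0,2,1,2],0),(2,
  [1,2,0,0,1,1,1,1,2,1,2,1,1,1,2,0,0,0,0,1,2,1,0,0,0,0,2,0,0],0),(1,[0,2,1,2],0),(1,[0,0,0,1,2],0),(1,[0,2,1,2],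
  0),(1,[0,0,1,2],0),(1,[0,0,1,2],0),(2,[0,0,0,0,1,1,2,0,0,0,2,1,1,1,1,0,0,0,0,2,0,2,1,1,1,1,2,0,2,1,0,0,2,0,0,
  0,0,2,1,2,0,2,0,2,0,1],0),(1,[0,0,2,1,2],0),(1,[1,2],0),(1,[0,2],0),(1,[0,2],0),(1,[0,0,2],0),(1,[0,2],0),(1,
  [1,2],0),(1,[0,2],0),(1,[0,1,2],0),(1,[0,1,2],0),(1,[0,0,1,1,2],0),(1,[0,0,1,2],0),(1,[0,1,1,2],0),(1,[0,0,1,
  2],0),(1,[0,2],0),(1,[0,2],0),(1,[1,2],0),(1,[0,2],0),(1,[0,2],0),(1,[0,0,2],0),(1,[0,0,1,2],0),(1,[0,0,1,2],
  0),(1,[0,1,1,1,2],0),(1,[0,1,2],0),(1,[1,2],0),(1,[0,1,2],0),(0,[],0),(0,[],0),(0,[],0),(1,[0,1,1,2],0),(1,[0,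
  0,1,2],0),(1,[0,0,1,2],0),(1,[0,1,2],0),(1,[1,2],0),(1,[0,1,2],0)]

def bad : List ℕ := [15,16,17,81,82,83,162,163,164]

def gw : List (List ℕ) := [[2],[0,2,0,0,0,0,0,0,0,0,2,0,0,0,0,0,0,0,0],[0,0,0,0,2,0,2,0,0,0,0,0,0,0,0,2,0,0,0,0,0,0,0,0],[0,1,1,1,1,0,2,
  0,0,0,0,1,1,2,1,1,1,0,0,0,0,2,1,1,1,1,1,1,1,1,2,1,0,2,1,1,1,1,2,1,1,1,1,0,0,2,1,1,1,1,1,1,1,1,2,1,1,2,1,1,1,1,
  1,1,1,1,2,0],[0,0,0,0,2,1,1,1,1,0,0,2,1,2,0,1,1,1,1,0,1,1,1,1,1,1,1,1,2,1,1,1,1,1,1,1,1,2,0,0,0,0,0,0,0,0,2,1,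
  1,1,1,1,1,1,1,2,1,1,1,1,0,0,0,0,2,1,1,2,1,1,1,1,1,1,1,1,2,1,1,2,0,0,0,0,0,0,0,0]]

def lR : List ℕ := [17,18,19,20,0,5]

def lA : List ℕ := [13,14]

def lP : List ℕ := [21,22,0,5,17,18,19,20,2,3,4]

def zl : List ℕ := [0,5,16]

def sw (i : ℕ) : List ℕ := (fun t => appendL t (nthL 0 zl (Nat.mod i 3) :: t.reverse)) (nthL [] tws (Nat.div i 3))

local notation "φ0" => Spor.SuzM.φ

theorem normP {u : Spor.Suz} (hu : u ∈ fixB φ0 [1777, 1776]) : ∃ j < 3, u * Y 0 * u⁻¹ = Y (nthL 0 zl j) := by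
  have h1 : Spor.genL Y lP ≤ fixB φ0 [1777, 1776] := Spor.genL_le fun i hi => lfix (by revert i; decide +kernel)
  have h2 := eq_of_le_of_card_ge h1 ((fix_step mR card_H0.le 1777 1365 184320 [[10], [14]] (by decide +kernel)).trans
    (le_card_sub mR sgP (fun w hw => W_mem _ fun a ha => Spor.mem_genL _ (by revert a w; decide)) [1664, 0, 2, 4] 769
      (by decide +kernel)))
  have h3 : Spor.genL Y lP ≤ normalizer ((fun j => Y (nthL 0 zl j)) '' Set.Iio 3) := Spor.genL_le fun i hi =>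
    mem_normalizer_fintype (by
      rintro _ ⟨j, hj, rfl⟩
      have k : ∀ i ∈ lP, ∀ j < 3, ∃ j' < 3, eqB acR BS [i, nthL 0 zl j] [nthL 0 zl j', i] = true := by decide +kernel
      obtain ⟨j', hj', e⟩ := k i hi j hj
      exact ⟨j', hj', by simpa [eq_mul_inv_iff_mul_eq] using (mR.eq e).symm⟩)
  obtain ⟨j, hj, e⟩ := (mem_set_normalizer_iff.1 (h3 (h2 ▸ hu)) (Y 0)).1 ⟨0, by decide, rfl⟩
  exact ⟨j, hj, e.symm⟩

theorem cover {h : Spor.Suz} (hh : h ∈ H0) : ∃ e < 25, ∃ i < 171,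
    h * Y 0 * h⁻¹ = W Y (wd 5 lA e) * W Y (sw i) * (W Y (wd 5 lA e))⁻¹ := by
  have o : φ0 h 1777 ∈ Spor.bset Spor.SuzM.A1 := by
    rw [← Spor.SuzM.orb1.1]
    have : 1777 ∈ Spor.bset Spor.SuzM.A1 := show Spor.SuzM.A1.testBit 1777 = true by decide +kernel
    rw [← Spor.SuzM.orb1.1] at this
    exact mem_orbit_of_mem_orbit (⟨φ0 h, h, H0_eq ▸ hh, rfl⟩ : Spor.SuzM.H.map φ0) this
  have k := allLt_iff.1 (show allLt 1782 (fun p => bif' (tb Spor.SuzM.A1 p) (force (Nat.pred (get2 11 ctab p)) fun c =>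
    band (Nat.blt (Nat.div c 25) 57) (band (Nat.blt (nthL 0 reps (Nat.div c 25)) 1782)
      (Nat.beq (actW acR (wd 5 lA (Nat.mod c 25)) (nthL 0 reps (Nat.div c 25))) p))) true) = true by decide +kernel) _
      (mR.lt h (show 1777 < 1782 by decide))
  rw [tb_eq, show Spor.SuzM.A1.testBit _ = true from o, bif'_true, force_eq, band_eq, Bool.and_eq_true, nblt] at k
  generalize Nat.pred _ = c at k
  have k2 := allLt_iff.1 (show allLt 57 (fun k => band (band (band (Nat.blt 1777 1782)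
    (Nat.beq (actW acR (nthL [] tws k) 1777) (nthL 0 reps k))) (allL [1776] fun p => band (Nat.blt p 1782)
      (Nat.beq (actW acR (nthL [] tws k) p) p))) (eqB acR BS (appendL (nthL [] tws k) (nthL [] tws k).reverse)
      (appendL [] []))) = true by decide +kernel) _ k.1
  rw [band_eq, band_eq, Bool.and_eq_true, Bool.and_eq_true] at k2
  have a1 : W Y (wd 5 lA (Nat.mod c 25)) ∈ H0 := wd_mem _ (fun i hi => lfix (by revert i; decide +kernel)) _
  have a2 := eq_inv_of_mul_eq_one_right ((eq_app mR k2.2).trans (mul_one _))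
  obtain ⟨j, hj, e⟩ := normP (u := (W Y (nthL [] tws (Nat.div c 25)))⁻¹ * ((W Y (wd 5 lA (Nat.mod c 25)))⁻¹ * h))
    (mem2.2 ⟨by
      rw [map_mul, map_mul, map_inv, map_inv, Perm.mul_apply, Perm.mul_apply, Perm.inv_eq_iff_eq, Perm.inv_eq_iff_eq,
        app k2.1.1, app k.2], mem1.1 (mul_mem (inv_mem (wfix k2.1.2)) (mul_mem (inv_mem a1) hh))⟩)
  refine ⟨Nat.mod c 25, Nat.mod_lt _ (by decide), j + 3 * Nat.div c 25, by have := k.1; omega, ?_⟩
  have e1 : Nat.mod (j + 3 * Nat.div c 25) 3 = j := by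
    change (j + 3 * _) % 3 = j; rw [Nat.add_mul_mod_self_left, Nat.mod_eq_of_lt hj]
  have e2 : Nat.div (j + 3 * Nat.div c 25) 3 = Nat.div c 25 := by
    change (j + 3 * _) / 3 = _; rw [Nat.add_mul_div_left _ _ (by decide), Nat.div_eq_of_lt hj, zero_add]
  rw [sw, e1, e2]; beta_reduce; rw [appendL_eq, W_append, W_cons, a2, ← e]; group

theorem ex2 {J : Subgroup Spor.Suz} (hJ : J ≤ H0) (hc : Nat.card J = 604800) : ∃ h ∈ H0, h * Y 0 * h⁻¹ ∈ J := by
  have m := pc_mem (fun _ _ => mR.eq) two_pos lR (show pcOK (eqB acR BS) 2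
    (fun s u => get 5 31 cwR (Nat.add (Nat.mul 32 s) u)) lR = true by decide +kernel)
  have c : Nat.card (Spor.genL Y lR) = 64 := le_antisymm (card_le_of_enum m) (le_card_sub mR [[17], [18], [19], [20]]
    (fun w hw => W_mem _ fun a ha => Spor.mem_genL _ (by revert a w; decide)) [0] 65 (by decide +kernel))
  obtain ⟨r, hr, h1, g, hg, h2⟩ := exists_conj_mem (R := Spor.genL Y lR) (n := 416)
    (Spor.genL_le fun i hi => lfix (by revert i; decide +kernel)) hJ (by rw [card_H0, hc]) (by rw [c]; decide)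
  obtain ⟨e, he, rfl⟩ := m r hr
  have k : ∀ e < 64, e = 0 ∨ ∃ w ∈ [[], [22], [22, 22]], allL [1776] (fun p => band (Nat.blt p 1782)
      (Nat.beq (actW acR w p) p)) = true ∧ (eqB acR BS (appendL w [0]) (appendL (wd 2 lR e) w) = true ∨
      eqB acR BS (appendL w [0]) (appendL (appendL (wd 2 lR e) (wd 2 lR e)) w) = true) := by decide +kernel
  obtain ⟨w, -, h3, h4⟩ := (k e he).resolve_left (by rintro rfl; exact h1 (wd_zero _ _))
  refine ⟨g⁻¹ * W Y w, mul_mem (inv_mem hg) (wfix h3), ?_⟩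
  rw [show g⁻¹ * W Y w * Y 0 * (g⁻¹ * W Y w)⁻¹ = g⁻¹ * (W Y w * W Y [0] * (W Y w)⁻¹) * g by simp [mul_assoc]]
  rcases h4 with h4 | h4 <;> rw [eq_app mR h4, mul_inv_cancel_right]
  · exact h2
  · rw [appendL_eq, W_append]; simpa [mul_assoc] using mul_mem h2 h2

theorem cC : Nat.card ↥(centralizer {Y 0} ⊓ H0) = 61440 := by
  letI := actOf φ0
  have e : H0 = stabilizer Spor.Suz 1776 := by ext g; rw [mem1]; rfl
  have h := card_eq_ncard_orbit_mul (centralizer {T.y 0}) 1776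
  have h1 : (orbit (centralizer {T.y 0}) 1776).ncard = 54 := le_antisymm ((Set.ncard_le_ncard (t := (G1.F.toFinset : Set ℕ)) (by
      rintro _ ⟨g, rfl⟩
      refine Finset.mem_coe.2 (List.mem_toFinset.2 (fix_mem' mdl (w := [0]) (by decide +kernel) (mdl.lt g (by decide)) ?_))
      have := fix_conj (g := g.1) (fix_of mdl (w := [0]) (p := 1776) (by decide +kernel))
      rw [W_cons, W_nil, mul_one] at this ⊢
      rwa [mem_centralizer_singleton_iff.1 g.2, mul_inv_cancel_right] at this)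
      (Set.toFinite _)).trans (by rw [Set.ncard_coe_finset]; exact List.toFinset_card_le _))
    (le_trans (by decide +kernel) (orbitL_le_ncard (hash := fun a => a) (valid := fun _ => true) (fuel := 55) (gens := G1.lC)
      (mS mdl).hy (fun j hj => ⟨_, G1.memC mdl (by simp [hj]), rfl⟩) (show PtN 1782 1776 1776 from ⟨rfl, by decide⟩)
      (isCanon_PtN 1782).canon (Set.finite_range _)))
  rw [G1.card_C mdl, h1, ← e, ← Y_lt (by decide)] at h
  omega

theorem core {J : Subgroup Spor.Suz} (hJ : J ≤ H0) (hc : Nat.card J = 604800) (hA : ∀ i ∈ lA, Y i ∈ J) :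
    ∀ i < 5, Y i ∈ J := by
  have fl : ∀ u w, W Y u ∈ J → W Y (flat [[13], [14], u] w) ∈ J := fun u w hu => by
    rw [W_flat]
    refine W_mem _ fun j _ => ?_
    rcases nthL_mem_or [] [[13], [14], u] j with e | e
    · simp only [List.mem_cons, List.not_mem_nil, or_false] at e
      rcases e with e | e | e <;> rw [e]
      exacts [by simpa using hA 13 (by decide), by simpa using hA 14 (by decide), hu]
    · rw [e]; exact one_mem _
  suffices h0 : Y 0 ∈ J from fun i hi => by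
    have k : ∀ i < 5, eqB acR BS [i] (flat [[13], [14], [0]] (nthL [] gw i)) = true := by decide +kernel
    rw [← mul_one (Y i), show Y i * 1 = _ from mR.eq (k i hi)]
    exact fl _ _ (by simpa using h0)
  by_contra h0
  obtain ⟨h, hh, hs⟩ := ex2 hJ hc
  have h1 := card_le_of_conj J (h * Y 0 * h⁻¹) (n := 225) (f := fun n => W Y (wd 5 lA (n % 25)) *
    W Y (sw (nthL 0 bad (n / 25))) * (W Y (wd 5 lA (n % 25)))⁻¹) fun k hk => by
      obtain ⟨e, he, i, hi, e1⟩ := cover (mul_mem (hJ hk) hh)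
      rw [show k * (h * Y 0 * h⁻¹) * k⁻¹ = k * h * Y 0 * (k * h)⁻¹ by group, e1]
      have a := wd_mem (p := 5) lA hA e
      have h2 : W Y (sw i) ∈ J := by
        have := mul_mem (mul_mem (inv_mem a) (mul_mem (mul_mem hk hs) (inv_mem hk))) a
        rwa [show k * (h * Y 0 * h⁻¹) * k⁻¹ = k * h * Y 0 * (k * h)⁻¹ by group, e1, ← mul_assoc, ← mul_assoc,
          inv_mul_cancel, one_mul, inv_mul_cancel_right] at this
      have k := allLt_iff.1 (show allLt 171 (fun i => (fun c : ℕ × List ℕ × ℕ => forceL (flat [[13], [14], sw i] c.2.1) fun w =>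
        bor (anyLt 9 fun b => Nat.beq (nthL 0 bad b) i) (bor (band (band (Nat.blt c.2.2 1782) (Nat.beq (iter (actW acR w) 13 c.2.2) c.2.2))
          (bif' (Nat.beq (actW acR w c.2.2) c.2.2) false true)) (eqB acR BS w [0]))) (nthL (0, [], 0) cls i)) = true by
            decide +kernel) i hi
      simp only [forceL_eq, bor_eq, band_eq, Bool.or_eq_true, Bool.and_eq_true, anyLt_iff, nbeq, nblt, bif'_eq] at k
      generalize nthL (0, [], 0) cls i = c at k
      have h3 := fl _ c.2.1 h2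
      rcases k with ⟨b, hb, k⟩ | k | k
      · refine ⟨e + 25 * b, by omega, ?_⟩
        rw [Nat.add_mul_mod_self_left, Nat.mod_eq_of_lt he, Nat.add_mul_div_left _ _ (by decide), Nat.div_eq_of_lt he,
          zero_add, k]
      · generalize flat _ _ = w at h3 k
        have h4 : W Y w ^ 13 ∈ fixB φ0 [c.2.2] := mem1.2 (((iter_apply (fun _ h => mR.lt _ h) (fun _ h => mR.applyW w h) 13
          k.1.1).1).trans k.1.2)
        have h5 : W Y w ^ 604800 = 1 := by simpa [hc] using congrArg Subtype.val (pow_card_eq_one' (x := (⟨_, h3⟩ : J)))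
        have h6 := pow_mem h4 558277
        rw [← pow_mul, show 13 * 558277 = 604800 * 12 + 1 from rfl, pow_succ, pow_mul, h5, one_pow, one_mul, mem1,
          mR.applyW _ k.1.1] at h6
        simp [h6] at k
      · exact absurd (by simpa [mR.eq k] using h3) h0
  have h2 : Nat.card ↥(J ⊓ centralizer {h * Y 0 * h⁻¹}) ∣ Nat.gcd 604800 61440 := Nat.dvd_gcd (hc ▸ card_dvd_of_le inf_le_left) (by
    rw [← cC, ← Comp.card_map_conj h⁻¹]
    refine card_dvd_of_le ?_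
    rintro _ ⟨g, hg, rfl⟩
    refine ⟨mem_centralizer_singleton_iff.2 ?_,
      H0.mul_mem (H0.mul_mem (H0.inv_mem hh) (hJ hg.1)) (H0.inv_mem (H0.inv_mem hh))⟩
    have := congrArg (fun t => h⁻¹ * t * h) (mem_centralizer_singleton_iff.1 hg.2)
    simpa [mul_assoc] using this)
  have h3 := Nat.le_of_dvd (by decide) h2
  rw [show Nat.gcd 604800 61440 = 1920 by decide] at h3
  omega

end R1

open R1

theorem conjK {J : Subgroup Spor.Suz} (hJ : J ≤ H0) (hc : Nat.card J = 604800) :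
    ∃ h ∈ H0, ∀ i < 5, h * Y i * h⁻¹ ∈ J := by
  have : Fact (Nat.Prime 5) := ⟨by norm_num⟩
  obtain ⟨P, hP⟩ := Sylow.exists_subgroup_card_pow_prime (G := J) 5 (n := 2) (by rw [hc]; decide)
  have m := pc_mem (fun _ _ => mR.eq) (show 0 < 5 by decide) lA (show pcOK (eqB acR BS) 5
    (fun s u => bif' (Nat.beq s u) 0 1) lA = true by decide +kernel)
  obtain ⟨g, hg, h⟩ := exists_conj_le_sylow (K := H0) (P := P.map J.subtype) (Q := Spor.genL Y lA) this.out
    ((map_subtype_le _).trans hJ) (Spor.genL_le fun i hi => lfix (by revert i; decide +kernel))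
    ((card_map_of_injective J.subtype_injective).trans hP) card_H0 (by decide) fun x => ⟨1, by
      obtain ⟨e, he, e1⟩ := m x x.2
      have k : ∀ e < 25, eqB acR BS (flat [wd 5 lA e] (rp 0 5 [])) [] = true := by decide +kernel
      have := mR.eq (k e he)
      rw [W_flat, W_rp, W_nil, W_nil, mul_one] at this
      exact Subtype.ext (by rw [pow_one, coe_pow, e1]; exact this)⟩
  refine ⟨g, hg, core (J := J.comap (MulAut.conj g).toMonoidHom) (fun x hx => ?_) ?_ fun i hi =>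
    map_subtype_le P (h _ (Spor.mem_genL _ hi))⟩
  · simpa [mul_assoc] using mul_mem (mul_mem (inv_mem hg) (hJ hx)) hg
  · rw [← hc, ← Comp.card_map_conj g, map_comap_eq_self_of_surjective (MulAut.conj g).surjective]

end Cfsg.Agent.SuzR
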